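/-
A set of root elements that can be moved inside a subgroup only by that subgroup controls orbits.

If `N ≤ X`, every element of `R ⊆ N` is a `p`-element, and every `g ∈ X` moving an element of `R` into `N` lies in
`N`, then a Sylow `p`-subgroup of `N` is one of `X`, and two points of an `X`-orbit that are both fixed by
elements of `R` lie in one `N`-orbit.
-/
import Mathlib

set_option autoImplicit false

namespace Cfsg.Agent.Classical.TensorMax

variable {G : Type*} [Group G]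

/-- A `p`-subgroup of a finite subgroup lies in a maximal one. -/
theorem exists_max_pgroup [Finite G] (p : ℕ) (X S : Subgroup G) (hSX : S ≤ X) (hS : IsPGroup p S) :
    ∃ T : Subgroup G, S ≤ T ∧ T ≤ X ∧ IsPGroup p T ∧
      ∀ T' : Subgroup G, T ≤ T' → T' ≤ X → IsPGroup p T' → T' = T := by
  obtain ⟨Q, hQ⟩ := (hS.comap_of_injective X.subtype Subtype.val_injective).exists_le_sylow
  refine ⟨(Q : Subgroup X).map X.subtype, fun s hs => ⟨⟨s, hSX hs⟩, hQ hs, rfl⟩, Subgroup.map_subtype_le _,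
    Q.isPGroup'.map _, fun T' hT hT'X hT' => ?_⟩
  have h1 := Q.is_maximal' (hT'.comap_of_injective X.subtype Subtype.val_injective) fun q hq => hT ⟨q, hq, rfl⟩
  rw [← h1]
  exact (Subgroup.map_comap_eq_self (by rwa [Subgroup.range_subtype])).symm

/-- Maximal `p`-subgroups of a finite subgroup are conjugate in it. -/
theorem conj_max_pgroup [Finite G] (p : ℕ) [Fact p.Prime] {X S T : Subgroup G} (hSX : S ≤ X) (hTX : T ≤ X)
    (hS : IsPGroup p S) (hT : IsPGroup p T)
    (hTm : ∀ T' : Subgroup G, T ≤ T' → T' ≤ X → IsPGroup p T' → T' = T) :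
    ∃ h ∈ X, ∀ s ∈ S, h * s * h⁻¹ ∈ T := by
  obtain ⟨P, hP⟩ := (hS.comap_of_injective X.subtype Subtype.val_injective).exists_le_sylow
  obtain ⟨Q, hQ⟩ := (hT.comap_of_injective X.subtype Subtype.val_injective).exists_le_sylow
  have hQT : (Q : Subgroup X).map X.subtype = T := by
    exact hTm _ (fun t ht => ⟨⟨t, hTX ht⟩, hQ ht, rfl⟩) (Subgroup.map_subtype_le _) (Q.isPGroup'.map _)
  obtain ⟨x, hx⟩ := MulAction.exists_smul_eq X P Q
  refine ⟨x, x.2, fun s hs => hQT ▸ ⟨x * ⟨s, hSX hs⟩ * x⁻¹, ?_, rfl⟩⟩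
  rw [← hx, Sylow.coe_subgroup_smul, SetLike.mem_coe, Subgroup.mem_pointwise_smul_iff_inv_smul_mem]
  simpa [MulAut.smul_def, MulAut.conj_apply, mul_assoc] using hP hs

/-- The setting: root elements of `N` are moved into `N` only by elements of `N`. -/
structure Roots (p : ℕ) (N X : Subgroup G) (R : Set G) : Prop where
  le : N ≤ X
  mem : R ⊆ N
  pgroup : ∀ z ∈ R, IsPGroup p (Subgroup.zpowers z)
  moves : ∀ g ∈ X, ∀ z ∈ R, g * z * g⁻¹ ∈ N → g ∈ N

variable [Finite G] {p : ℕ} [Fact p.Prime] {N X : Subgroup G} {R : Set G}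

/-- Every `p`-subgroup of the big group is conjugate into the small one. -/
theorem Roots.conj_into (H : Roots p N X R) {z₀ : G} (hz₀ : z₀ ∈ R) {S : Subgroup G} (hSX : S ≤ X)
    (hS : IsPGroup p S) : ∃ h ∈ X, ∀ s ∈ S, h * s * h⁻¹ ∈ N := by
  obtain ⟨U, hzU, hUN, hU, hUm⟩ := exists_max_pgroup p N (Subgroup.zpowers z₀)
    (Subgroup.zpowers_le.2 (H.mem hz₀)) (H.pgroup z₀ hz₀)
  obtain ⟨T, hUT, hTX, hT, hTm⟩ := exists_max_pgroup p X U (hUN.trans H.le) hU
  have hnorm : ∀ g ∈ T, (∀ u ∈ U, g * u * g⁻¹ ∈ U) → g ∈ U := fun g hg hgu => by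
    have hgN : g ∈ N := H.moves g (hTX hg) z₀ hz₀ (hUN (hgu z₀ (hzU (Subgroup.mem_zpowers z₀))))
    have h1 : U ⊔ Subgroup.zpowers g = U := hUm _ le_sup_left (sup_le hUN (Subgroup.zpowers_le.2 hgN))
      (hT.to_le (sup_le hUT (Subgroup.zpowers_le.2 hg)))
    exact h1 ▸ (le_sup_right : Subgroup.zpowers g ≤ _) (Subgroup.mem_zpowers g)
  have hUT' : U = T := by
    by_contra hne
    haveI := hT.isNilpotent
    have hnc := normalizerCondition_of_isNilpotent (G := T) (U.subgroupOf T) ?_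
    · obtain ⟨g, hg, hgU⟩ := SetLike.exists_of_lt hnc
      refine hgU (hnorm g g.2 fun u hu => ?_)
      have := (Subgroup.mem_normalizer_iff.1 hg ⟨u, hUT hu⟩).1 hu
      exact this
    · refine lt_top_iff_ne_top.2 fun e => hne (le_antisymm hUT ?_)
      exact Subgroup.subgroupOf_eq_top.1 e
  obtain ⟨h, hh, hconj⟩ := conj_max_pgroup p hSX hTX hS hT hTm
  exact ⟨h, hh, fun s hs => hUN (hUT' ▸ hconj s hs)⟩

/-- Two subgroups (point stabilisers) that are carried into one another by `g ∈ X` and both meet the root set: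
`g` factors through the second one and `N`. -/
theorem Roots.factor (H : Roots p N X R) {St St' : Subgroup G} {g : G} (hg : g ∈ X)
    (hSt : ∀ s ∈ St, g * s * g⁻¹ ∈ St') {z z' : G} (hz : z ∈ R) (hzS : z ∈ St) (hz' : z' ∈ R) (hz'S : z' ∈ St') :
    ∃ h ∈ X, h ∈ St' ∧ ∃ n ∈ N, g = h * n := by
  obtain ⟨S, hzS', hSY, hS, hSm⟩ := exists_max_pgroup p (X ⊓ St') (Subgroup.zpowers z')
    (Subgroup.zpowers_le.2 ⟨H.le (H.mem hz'), hz'S⟩) (H.pgroup z' hz')
  obtain ⟨c, hcX, hc⟩ := H.conj_into hz (hSY.trans inf_le_left) hS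
  have hcN : c ∈ N := H.moves c hcX z' hz' (hc z' (hzS' (Subgroup.mem_zpowers z')))
  have hgz : IsPGroup p (Subgroup.zpowers (g * z * g⁻¹)) := by
    have := (H.pgroup z hz).map (MulAut.conj g).toMonoidHom
    rwa [MonoidHom.map_zpowers] at this
  obtain ⟨h, ⟨hhX, hhS⟩, hh⟩ := conj_max_pgroup p (X := X ⊓ St')
    (Subgroup.zpowers_le.2 ⟨X.mul_mem (X.mul_mem hg (H.le (H.mem hz))) (X.inv_mem hg), hSt z hzS⟩) hSY hgz hS hSm
  have h1 : h * g ∈ N := by
    have h2 : c * h * g ∈ N := by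
      refine H.moves _ (mul_mem (mul_mem hcX hhX) hg) z hz ?_
      have h3 := hc _ (hh _ (Subgroup.mem_zpowers _))
      rwa [show c * h * g * z * (c * h * g)⁻¹ = c * (h * (g * z * g⁻¹) * h⁻¹) * c⁻¹ by group]
    have := mul_mem (inv_mem hcN) h2
    rwa [mul_assoc c, inv_mul_cancel_left] at this
  exact ⟨h⁻¹, inv_mem hhX, inv_mem hhS, h * g, h1, by rw [inv_mul_cancel_left]⟩

end Cfsg.Agent.Classical.TensorMax
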