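/-
Tensor products of linear groups: the group generated with anything new contains all transvections or is trapped in
the stabiliser of a root subgroup.
-/
import Cfsg.Agent.Lib.Classical.LinBasic

set_option autoImplicit false
set_option linter.unusedSectionVars false

namespace Cfsg.Agent.Classical.TensorMax

open Matrix Cfsg.Geo
open Cfsg.Agent.Classical
open scoped Kronecker

variable {α β : Type} [Fintype α] [DecidableEq α] [Fintype β] [DecidableEq β] {F : Type*} [Field F]

/-- The Kronecker product of two invertible matrices. -/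
def kr (a : GL α F) (b : GL β F) : GL (α × β) F where
  val := (a : Matrix α α F) ⊗ₖ (b : Matrix β β F)
  inv := ((a⁻¹ : GL α F) : Matrix α α F) ⊗ₖ ((b⁻¹ : GL β F) : Matrix β β F)
  val_inv := by rw [← Matrix.mul_kronecker_mul, ← Units.val_mul, ← Units.val_mul]; simp
  inv_val := by rw [← Matrix.mul_kronecker_mul, ← Units.val_mul, ← Units.val_mul]; simp

theorem kr_val (a : GL α F) (b : GL β F) :
    (kr a b : Matrix (α × β) (α × β) F) = (a : Matrix α α F) ⊗ₖ (b : Matrix β β F) := rfl

theorem kr_mul (a c : GL α F) (b d : GL β F) : kr a b * kr c d = kr (a * c) (b * d) :=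
  Units.ext (by rw [Units.val_mul, kr_val, kr_val, kr_val, ← Matrix.mul_kronecker_mul, ← Units.val_mul, ← Units.val_mul])

theorem kr_one : kr (1 : GL α F) (1 : GL β F) = 1 := Units.ext (by simp [kr_val])

theorem kr_inv (a : GL α F) (b : GL β F) : (kr a b)⁻¹ = kr a⁻¹ b⁻¹ := rfl

/-- The subgroup of Kronecker products. -/
def Kr (α β : Type) [Fintype α] [DecidableEq α] [Fintype β] [DecidableEq β] (F : Type*) [Field F] :
    Subgroup (GL (α × β) F) where
  carrier := {g | ∃ a b, g = kr a b}
  mul_mem' {g h} := by rintro ⟨a, b, rfl⟩ ⟨c, d, rfl⟩; exact ⟨a * c, b * d, kr_mul a c b d⟩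
  one_mem' := ⟨1, 1, kr_one.symm⟩
  inv_mem' {g} := by rintro ⟨a, b, rfl⟩; exact ⟨a⁻¹, b⁻¹, rfl⟩

/-- The Kronecker products of determinant one. -/
def Ns (α β : Type) [Fintype α] [DecidableEq α] [Fintype β] [DecidableEq β] (F : Type*) [Field F] :
    Subgroup (GL (α × β) F) :=
  Kr α β F ⊓ specialLinear (α × β) F

theorem kr_left_mem {a : GL α F} (ha : (a : Matrix α α F).det = 1) : kr a (1 : GL β F) ∈ Ns α β F :=
  ⟨⟨a, 1, rfl⟩, mem_specialLinear_iff.2 (by rw [kr_val, det_kronecker, ha, Units.val_one, det_one]; simp)⟩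

theorem kr_right_mem {b : GL β F} (hb : (b : Matrix β β F).det = 1) : kr (1 : GL α F) b ∈ Ns α β F :=
  ⟨⟨1, b, rfl⟩, mem_specialLinear_iff.2 (by rw [kr_val, det_kronecker, hb, Units.val_one, det_one]; simp)⟩

theorem kr_mem {a : GL α F} {b : GL β F} (ha : (a : Matrix α α F).det = 1) (hb : (b : Matrix β β F).det = 1) :
    kr a b ∈ Ns α β F := by
  rw [show kr a b = kr a 1 * kr 1 b by rw [kr_mul, mul_one, one_mul]]
  exact mul_mem (kr_left_mem ha) (kr_right_mem hb)

/-- The matrix of a radical element: rows only at the distinguished index `o`. -/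
def rmat (o : β) (φ : β → Matrix α α F) : Matrix (α × β) (α × β) F :=
  Matrix.of fun p q => if p.2 = o then φ q.2 p.1 q.1 else 0

theorem rmat_apply (o : β) (φ : β → Matrix α α F) (p q : α × β) :
    rmat o φ p q = if p.2 = o then φ q.2 p.1 q.1 else 0 := rfl

theorem rmat_add (o : β) (φ ψ : β → Matrix α α F) : rmat o (φ + ψ) = rmat o φ + rmat o ψ := by
  ext p q
  by_cases h : p.2 = o <;> simp [rmat_apply, h]

theorem rmat_mul_rmat {o : β} {φ : β → Matrix α α F} (ψ : β → Matrix α α F) (h : φ o = 0) :
    rmat o φ * rmat o ψ = 0 := by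
  ext p q
  rw [Matrix.mul_apply, Matrix.zero_apply]
  refine Finset.sum_eq_zero fun l _ => ?_
  by_cases hl : l.2 = o
  · simp [rmat_apply, hl, h]
  · simp [rmat_apply, hl]

theorem left_mul_rmat (o : β) (φ : β → Matrix α α F) (A : Matrix α α F) {B : Matrix β β F}
    (hB : ∀ k, B k o = if k = o then 1 else 0) :
    (A ⊗ₖ B) * rmat o φ = rmat o fun i => A * φ i := by
  ext ⟨x, k⟩ ⟨y, i⟩
  rw [Matrix.mul_apply, Fintype.sum_prod_type, rmat_apply]
  simp only [rmat_apply, kroneckerMap_apply, mul_ite, mul_zero, Finset.sum_ite_eq', Finset.mem_univ, if_true, hB,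
    Matrix.mul_apply, mul_one]
  split_ifs <;> simp_all

theorem rmat_mul_left (o : β) (φ : β → Matrix α α F) (A : Matrix α α F) (B : Matrix β β F) :
    rmat o φ * (A ⊗ₖ B) = rmat o fun i => ∑ l, B l i • (φ l * A) := by
  ext ⟨x, k⟩ ⟨y, i⟩
  rw [Matrix.mul_apply, Fintype.sum_prod_type, rmat_apply]
  by_cases hk : k = o
  · simp only [rmat_apply, hk, if_true, kroneckerMap_apply, Matrix.sum_apply, Matrix.smul_apply, Matrix.mul_apply,
      smul_eq_mul, Finset.mul_sum]
    rw [Finset.sum_comm]
    exact Finset.sum_congr rfl fun l _ => Finset.sum_congr rfl fun z _ => by ring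
  · simp [rmat_apply, hk]

/-- The radical elements of the overgroup. -/
def InR (X : Subgroup (GL (α × β) F)) (o : β) (φ : β → Matrix α α F) : Prop :=
  φ o = 0 ∧ ∃ g ∈ X, (g : Matrix (α × β) (α × β) F) = 1 + rmat o φ

variable {X : Subgroup (GL (α × β) F)} {o : β}

theorem inR_val_inv {g : GL (α × β) F} {φ : β → Matrix α α F} (h : φ o = 0)
    (hg : (g : Matrix (α × β) (α × β) F) = 1 + rmat o φ) :
    ((g⁻¹ : GL (α × β) F) : Matrix (α × β) (α × β) F) = 1 + rmat o (-φ) := by
  refine left_inv_eq_right_inv (a := (g : Matrix (α × β) (α × β) F)) (by rw [← Units.val_mul, inv_mul_cancel, Units.val_one]) ?_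
  rw [hg, add_mul, one_mul, mul_add, mul_one, rmat_mul_rmat _ h, add_zero, add_assoc, ← rmat_add,
    neg_add_cancel]
  have : rmat o (0 : β → Matrix α α F) = 0 := by ext p q; simp [rmat_apply]
  rw [this, add_zero]

theorem InR.add {φ ψ : β → Matrix α α F} (hφ : InR X o φ) (hψ : InR X o ψ) : InR X o (φ + ψ) := by
  obtain ⟨h0, g, hg, hgv⟩ := hφ
  obtain ⟨k0, k, hk, hkv⟩ := hψ
  refine ⟨by simp [h0, k0], g * k, mul_mem hg hk, ?_⟩
  rw [Units.val_mul, hgv, hkv, add_mul, one_mul, mul_add, mul_one, rmat_mul_rmat _ h0, add_zero, add_assoc,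
    ← rmat_add, add_comm φ ψ]

theorem InR.neg {φ : β → Matrix α α F} (hφ : InR X o φ) : InR X o (-φ) := by
  obtain ⟨h0, g, hg, hgv⟩ := hφ
  exact ⟨by simp [h0], g⁻¹, inv_mem hg, inR_val_inv h0 hgv⟩

theorem InR.sub {φ ψ : β → Matrix α α F} (hφ : InR X o φ) (hψ : InR X o ψ) : InR X o (φ - ψ) :=
  sub_eq_add_neg φ ψ ▸ hφ.add hψ.neg

variable (hN : Ns α β F ≤ X)

include hN

/-- Conjugation by a Kronecker product fixing the distinguished vector. -/
theorem InR.conj {φ : β → Matrix α α F} (hφ : InR X o φ) {a : GL α F} {b : GL β F}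
    (hab : kr a b ∈ Ns α β F) (hb : ∀ k, (b : Matrix β β F) k o = if k = o then 1 else 0) :
    InR X o fun i => ∑ l, ((b⁻¹ : GL β F) : Matrix β β F) l i •
      ((a : Matrix α α F) * φ l * ((a⁻¹ : GL α F) : Matrix α α F)) := by
  obtain ⟨h0, g, hg, hgv⟩ := hφ
  refine ⟨?_, kr a b * g * (kr a b)⁻¹, mul_mem (mul_mem (hN hab) hg) (inv_mem (hN hab)), ?_⟩
  · refine Finset.sum_eq_zero fun l _ => ?_
    by_cases hl : l = o
    · rw [hl, h0, mul_zero, zero_mul, smul_zero]
    · have hbo : ((b⁻¹ : GL β F) : Matrix β β F) l o = 0 := by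
        have h := congrFun (congrFun (show ((b⁻¹ : GL β F) : Matrix β β F) * (b : Matrix β β F) = 1 by
          rw [← Units.val_mul, inv_mul_cancel, Units.val_one]) l) o
        rw [Matrix.mul_apply, Matrix.one_apply_ne hl] at h
        simpa [hb] using h
      rw [hbo, zero_smul]
  · rw [Units.val_mul, Units.val_mul, hgv, mul_add, add_mul, mul_one, ← Units.val_mul, mul_inv_cancel, Units.val_one,
      kr_val, kr_inv, kr_val, left_mul_rmat o φ _ hb, rmat_mul_left]

/-- Scaled single-slot elements. -/
def Slot (X : Subgroup (GL (α × β) F)) (o : β) (M : Matrix α α F) : Prop :=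
  ∀ j, j ≠ o → ∀ c : F, InR X o (Pi.single j (c • M))

omit hN in
theorem Slot.sub {M M' : Matrix α α F} (h : Slot X o M) (h' : Slot X o M') : Slot X o (M - M') := fun j hj c => by
  rw [smul_sub, Pi.single_sub]; exact (h j hj c).sub (h' j hj c)

omit hN in
theorem Slot.add {M M' : Matrix α α F} (h : Slot X o M) (h' : Slot X o M') : Slot X o (M + M') := fun j hj c => by
  rw [smul_add, Pi.single_add]; exact (h j hj c).add (h' j hj c)

omit hN in
theorem Slot.smul {M : Matrix α α F} (h : Slot X o M) (d : F) : Slot X o (d • M) := fun j hj c => by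
  rw [smul_smul]; exact h j hj _

theorem Slot.conj {M : Matrix α α F} (h : Slot X o M) {a : GL α F} (ha : (a : Matrix α α F).det = 1) :
    Slot X o ((a : Matrix α α F) * M * ((a⁻¹ : GL α F) : Matrix α α F)) := fun j hj c => by
  have h1 := (h j hj c).conj hN (kr_left_mem ha) (b := 1) fun k => by simp [Matrix.one_apply]
  convert h1 using 1
  funext i
  rw [inv_one, Units.val_one, Finset.sum_eq_single i (fun l _ hl => by rw [Matrix.one_apply_ne hl, zero_smul])
    (fun h => absurd (Finset.mem_univ i) h), Matrix.one_apply_eq, one_smul]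
  by_cases hi : i = j
  · subst hi; simp
  · simp [Pi.single_eq_of_ne hi]

/-- A slot is moved to another one. -/
theorem InR.move {φ : β → Matrix α α F} (hφ : InR X o φ) {j k : β} (hj : j ≠ o) (hk : k ≠ o) (hjk : j ≠ k)
    (c : F) : InR X o (Pi.single k (c • φ j)) := by
  have hb : ∀ l, (transGL hjk (-c) : Matrix β β F) l o = if l = o then 1 else 0 := fun l => by
    simp [transGL_coe, Matrix.transvection, Matrix.one_apply, Matrix.single_apply, hk]
  have hd : (transGL hjk (-c) : Matrix β β F).det = 1 := mem_specialLinear_iff.1 (transGL_mem hjk (-c))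
  have h1 := (hφ.conj hN (a := 1) (kr_right_mem hd) hb).sub hφ
  have hinv : ((transGL hjk (-c))⁻¹ : GL β F) = transGL hjk c := by
    refine inv_eq_of_mul_eq_one_right (Units.ext ?_)
    rw [Units.val_mul, transGL_coe, transGL_coe, Matrix.transvection_mul_transvection_same _ _ hjk]
    simp
  convert h1 using 1
  funext i
  simp only [Pi.sub_apply, inv_one, Units.val_one, one_mul, mul_one, hinv, transGL_coe]
  simp only [Matrix.transvection, Matrix.add_apply, add_smul, Finset.sum_add_distrib, Matrix.one_apply, ite_smul,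
    one_smul, zero_smul, Finset.sum_ite_eq', Finset.mem_univ, if_true, add_sub_cancel_left]
  by_cases hi : i = k
  · subst hi
    rw [Pi.single_eq_same, Finset.sum_eq_single j]
    · simp [Matrix.single_apply]
    · intro l _ hl; simp [Matrix.single_apply, Ne.symm hl]
    · simp
  · rw [Pi.single_eq_of_ne hi, Finset.sum_eq_zero]
    intro l _
    simp [Matrix.single_apply, Ne.symm hi]

theorem exists_slot (h3 : 3 ≤ Fintype.card β) {φ : β → Matrix α α F} (hφ : InR X o φ) {j : β} (hj : j ≠ o) :
    Slot X o (φ j) := by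
  classical
  obtain ⟨k, hk, hkj⟩ : ∃ k, k ≠ o ∧ k ≠ j := by
    obtain ⟨k, -, hk⟩ := Finset.exists_mem_notMem_of_card_lt_card (s := {o, j}) (t := (Finset.univ : Finset β))
      (lt_of_le_of_lt Finset.card_le_two (by rw [Finset.card_univ]; omega))
    exact ⟨k, fun h => hk (by simp [h]), fun h => hk (by simp [h])⟩
  have hK : ∀ c : F, InR X o (Pi.single k (c • φ j)) := fun c => hφ.move hN hj hk hkj.symm c
  intro i hi c
  by_cases hik : i = k
  · exact hik ▸ hK c
  · have := (hK 1).move hN hk hi (Ne.symm hik) c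
    rwa [Pi.single_eq_same, one_smul] at this

omit hN in
theorem single_mul_mul (r s : α) (M : Matrix α α F) (a b : α) :
    Matrix.single r s (1 : F) * M * Matrix.single a b 1 = M s a • Matrix.single r b 1 := by
  ext x y
  rw [Matrix.mul_apply, Finset.sum_eq_single a (fun l _ hl => by simp [Matrix.single_apply, Ne.symm hl]) (by simp),
    Matrix.mul_apply, Finset.sum_eq_single s (fun l _ hl => by simp [Matrix.single_apply, Ne.symm hl]) (by simp),
    Matrix.smul_apply, smul_eq_mul]
  simp only [Matrix.single_apply, and_true, true_and]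
  split_ifs <;> simp_all

theorem slot_trans_conj {M : Matrix α α F} (h : Slot X o M) {r s : α} (hrs : r ≠ s) (a : F) :
    Slot X o ((1 + a • Matrix.single r s 1) * M * (1 - a • Matrix.single r s 1)) := by
  have hd : (transGL hrs a : Matrix α α F).det = 1 := mem_specialLinear_iff.1 (transGL_mem hrs a)
  have e1 : 1 + a • Matrix.single r s (1 : F) = (transGL hrs a : Matrix α α F) := by
    rw [transGL_coe, Matrix.transvection, Matrix.smul_single, smul_eq_mul, mul_one]
  have e2 : 1 - a • Matrix.single r s (1 : F) = (((transGL hrs a)⁻¹ : GL α F) : Matrix α α F) := by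
    have hinv : ((transGL hrs a)⁻¹ : GL α F) = transGL hrs (-a) := by
      refine inv_eq_of_mul_eq_one_right (Units.ext ?_)
      rw [Units.val_mul, transGL_coe, transGL_coe, Matrix.transvection_mul_transvection_same _ _ hrs]
      simp
    rw [hinv, transGL_coe, Matrix.transvection, Matrix.smul_single, smul_eq_mul, mul_one, ← Matrix.single_neg,
      sub_eq_add_neg]
  rw [e1, e2]
  exact h.conj hN hd

/-- A non-scalar slot gives a rank one slot. -/
theorem slot_root (hex : (∃ a : F, a ≠ 0 ∧ a ≠ 1) ∨ 3 ≤ Fintype.card α) {M : Matrix α α F} (h : Slot X o M)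
    (hM : ∀ c : F, M ≠ c • 1) : ∃ r s : α, r ≠ s ∧ Slot X o (Matrix.single r s 1) := by
  classical
  by_cases hoff : ∃ r s, r ≠ s ∧ M s r ≠ 0
  · obtain ⟨r, s, hrs, hsr⟩ := hoff
    rcases hex with ⟨a, ha0, ha1⟩ | h3
    · refine ⟨r, s, hrs, ?_⟩
      have e : ((1 + a • Matrix.single r s 1) * M * (1 - a • Matrix.single r s 1) - M) -
          a • ((1 + (1 : F) • Matrix.single r s 1) * M * (1 - (1 : F) • Matrix.single r s 1) - M) =
          ((a - a * a) * M s r) • Matrix.single r s (1 : F) := by
        rw [← smul_smul, ← single_mul_mul r s M r s]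
        simp only [add_mul, mul_sub, one_mul, mul_one, smul_mul_assoc, mul_smul_comm, one_smul, smul_smul]
        module
      have h1 := ((slot_trans_conj hN h hrs a).sub h).sub (((slot_trans_conj hN h hrs 1).sub h).smul a)
      rw [e] at h1
      have hne : (a - a * a) * M s r ≠ 0 := mul_ne_zero (by
        rw [show a - a * a = a * (1 - a) by ring]; exact mul_ne_zero ha0 (sub_ne_zero.2 (Ne.symm ha1))) hsr
      have := h1.smul ((a - a * a) * M s r)⁻¹
      rwa [smul_smul, inv_mul_cancel₀ hne, one_smul] at this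
    · obtain ⟨t, -, ht⟩ := Finset.exists_mem_notMem_of_card_lt_card (s := {r, s}) (t := (Finset.univ : Finset α))
        (lt_of_le_of_lt Finset.card_le_two (by rw [Finset.card_univ]; omega))
      simp only [Finset.mem_insert, Finset.mem_singleton, not_or] at ht
      refine ⟨r, t, Ne.symm ht.1, ?_⟩
      have hd : ∀ {i l : α} (hil : i ≠ l) (x : F), (transGL hil x : Matrix α α F).det = 1 :=
        fun hil x => mem_specialLinear_iff.1 (transGL_mem hil x)
      have hE : ∀ x y : α, x ≠ r → Matrix.single r x (1 : F) * Matrix.single r y 1 = 0 := fun x y hx =>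
        Matrix.single_mul_single_of_ne _ _ _ _ hx _
      have h12 : Slot X o ((1 + Matrix.single r s (1 : F) + Matrix.single r t 1) * M *
          (1 - Matrix.single r s 1 - Matrix.single r t 1)) := by
        have := slot_trans_conj hN (slot_trans_conj hN h (Ne.symm ht.1) 1) hrs 1
        convert this using 1
        simp only [one_smul]
        rw [show (1 + Matrix.single r s (1 : F)) * ((1 + Matrix.single r t 1) * M * (1 - Matrix.single r t 1)) *
          (1 - Matrix.single r s 1) = ((1 + Matrix.single r s (1 : F)) * (1 + Matrix.single r t 1)) * M *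
          ((1 - Matrix.single r t 1) * (1 - Matrix.single r s 1)) by simp only [mul_assoc]]
        congr 1
        · congr 1
          rw [add_mul, one_mul, mul_add, mul_one, hE s t hrs.symm]; abel
        · rw [sub_mul, one_mul, mul_sub, mul_one, hE t s ht.1]; abel
      have h1 := (h12.sub (slot_trans_conj hN h hrs 1)).sub (slot_trans_conj hN h (Ne.symm ht.1) 1) |>.add h
      have e : (1 + Matrix.single r s (1 : F) + Matrix.single r t 1) * M *
            (1 - Matrix.single r s 1 - Matrix.single r t 1) -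
          (1 + (1 : F) • Matrix.single r s 1) * M * (1 - (1 : F) • Matrix.single r s 1) -
          (1 + (1 : F) • Matrix.single r t 1) * M * (1 - (1 : F) • Matrix.single r t 1) + M =
          (-M s r) • Matrix.single r t (1 : F) + (-M t r) • Matrix.single r s 1 := by
        rw [neg_smul, neg_smul, ← single_mul_mul r s M r t, ← single_mul_mul r t M r s]
        simp only [one_smul, add_mul, mul_sub, one_mul, mul_one]
        abel
      rw [e] at h1
      have h2 := slot_trans_conj hN h1 (r := t) (s := s) ht.2 (M t r / M s r)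
      have hz1 : ∀ y, Matrix.single t s (1 : F) * Matrix.single r y 1 = 0 := fun y =>
        Matrix.single_mul_single_of_ne _ _ _ _ hrs.symm _
      have hz2 : Matrix.single r t (1 : F) * Matrix.single t s 1 = Matrix.single r s 1 := by
        rw [Matrix.single_mul_single_same, one_mul]
      have hz3 : Matrix.single r s (1 : F) * Matrix.single t s 1 = 0 :=
        Matrix.single_mul_single_of_ne _ _ _ _ (Ne.symm ht.2) _
      have e2 : (1 + (M t r / M s r) • Matrix.single t s (1 : F)) *
            ((-M s r) • Matrix.single r t (1 : F) + (-M t r) • Matrix.single r s 1) *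
            (1 - (M t r / M s r) • Matrix.single t s 1) = (-M s r) • Matrix.single r t (1 : F) := by
        simp only [add_mul, mul_sub, mul_add, one_mul, mul_one, smul_mul_assoc, mul_smul_comm, hz1, hz2, hz3,
          smul_zero, zero_mul, add_zero, sub_zero]
        match_scalars <;> field_simp
        ring
      rw [e2] at h2
      have := h2.smul (-M s r)⁻¹
      rwa [smul_smul, inv_mul_cancel₀ (neg_ne_zero.2 hsr), one_smul] at this
  · push Not at hoff
    obtain ⟨r, s, hrs, hne⟩ : ∃ r s, r ≠ s ∧ M r r ≠ M s s := by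
      by_contra hcon
      push Not at hcon
      rcases isEmpty_or_nonempty α with he | ⟨⟨x₀⟩⟩
      · exact hM 0 (Matrix.ext fun i => he.elim i)
      refine hM (M x₀ x₀) (Matrix.ext fun i l => ?_)
      by_cases hil : i = l
      · subst hil
        by_cases hix : i = x₀
        · simp [hix]
        · simp [hcon i x₀ hix]
      · simp [hoff l i (Ne.symm hil), Matrix.one_apply_ne hil]
    refine ⟨r, s, hrs, ?_⟩
    have h1 := (slot_trans_conj hN h hrs 1).sub h
    have e : (1 + (1 : F) • Matrix.single r s 1) * M * (1 - (1 : F) • Matrix.single r s 1) - M =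
        (M s s - M r r) • Matrix.single r s (1 : F) := by
      have hM' : M = Matrix.diagonal fun i => M i i := Matrix.ext fun i l => by
        by_cases hil : i = l
        · subst hil; simp
        · simp [hoff l i (Ne.symm hil), Matrix.diagonal_apply_ne _ hil]
      have hEM : Matrix.single r s (1 : F) * M = M s s • Matrix.single r s (1 : F) := by
        conv_lhs => rw [hM']
        ext x y
        simp only [Matrix.mul_diagonal, Matrix.single_apply, Matrix.smul_apply, smul_eq_mul]
        split_ifs with hc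
        · rw [hc.2]; ring
        · ring
      have hME : M * Matrix.single r s (1 : F) = M r r • Matrix.single r s (1 : F) := by
        conv_lhs => rw [hM']
        ext x y
        simp only [Matrix.diagonal_mul, Matrix.single_apply, Matrix.smul_apply, smul_eq_mul]
        split_ifs with hc
        · rw [hc.1]
        · ring
      rw [one_smul, add_mul, one_mul, mul_sub, mul_one, add_mul, hME, hEM, smul_mul_assoc,
        Matrix.single_mul_single_of_ne _ _ _ _ hrs.symm, smul_zero, add_zero]
      module
    rw [e] at h1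
    have := h1.smul (M s s - M r r)⁻¹
    rwa [smul_smul, inv_mul_cancel₀ (sub_ne_zero.2 (Ne.symm hne)), one_smul] at this

omit hN in
/-- A monomial matrix of determinant one realising a permutation. -/
theorem exists_monomial [Nonempty α] (σ : Equiv.Perm α) :
    ∃ A : GL α F, (A : Matrix α α F).det = 1 ∧ ∃ d : α → F, (∀ i, d i ≠ 0) ∧
      ∀ x i, (A : Matrix α α F) x i = if x = σ i then d i else 0 := by
  classical
  obtain ⟨p₀⟩ := ‹Nonempty α›
  let d : α → F := Function.update (fun _ => (1 : F)) p₀ ((Equiv.Perm.sign σ : ℤ) : F)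
  have hd : ∀ i, d i ≠ 0 := fun i => by
    by_cases hi : i = p₀
    · subst hi
      simp only [d, Function.update_self]
      rcases Int.units_eq_one_or (Equiv.Perm.sign σ) with e | e <;> simp [e]
    · simp [d, Function.update_of_ne hi]
  let M : Matrix α α F := (Matrix.diagonal d).submatrix id σ
  have hdet : M.det = 1 := by
    rw [Matrix.det_permute', Matrix.det_diagonal, Finset.prod_update_of_mem (Finset.mem_univ p₀)]
    simp only [Finset.prod_const_one, mul_one]
    rcases Int.units_eq_one_or (Equiv.Perm.sign σ) with e | e <;> simp [e]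
  refine ⟨((Matrix.isUnit_iff_isUnit_det M).2 (hdet ▸ isUnit_one)).unit, hdet, fun i => d (σ i),
    fun i => hd _, fun x i => ?_⟩
  rw [IsUnit.unit_spec]
  simp only [M, Matrix.submatrix_apply, id]
  by_cases hx : x = σ i
  · subst hx; simp
  · simp [hx]

/-- A rank one slot gives every transvection. -/
theorem sl_le_of_root (h3 : 3 ≤ Fintype.card β) {r s : α} (hrs : r ≠ s) (h : Slot X o (Matrix.single r s 1)) :
    specialLinear (α × β) F ≤ X := by
  classical
  haveI : Nonempty α := ⟨r⟩
  haveI : Nonempty β := ⟨o⟩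
  haveI : Nontrivial (α × β) := ⟨⟨(r, o), (s, o), fun e => hrs (Prod.mk.inj e).1⟩⟩
  obtain ⟨j, hj⟩ : ∃ j, j ≠ o := by
    haveI : Nontrivial β := Fintype.one_lt_card_iff_nontrivial.mp (by omega)
    exact exists_ne o
  have hbase : ∀ (c : F) (hne : (r, o) ≠ (s, j)), transGL hne c ∈ X := fun c hne => by
    obtain ⟨-, g, hg, hgv⟩ := h j hj c
    have e : g = transGL hne c := Units.ext (by
      rw [hgv, transGL_coe, Matrix.transvection]
      congr 1
      ext ⟨x, k⟩ ⟨y, i⟩
      by_cases hi : i = j
      · subst hi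
        by_cases hk : k = o <;> by_cases hx : x = r <;> by_cases hy : y = s <;>
          simp [rmat_apply, Matrix.single_apply, hk, hx, hy, Ne.symm, eq_comm]
      · simp [rmat_apply, Pi.single_eq_of_ne hi, Matrix.single_apply, Ne.symm hi])
    exact e ▸ hg
  have hboth : ∀ (a b : α) (k l : β) (c : F) (hne : (a, k) ≠ (b, l)), a ≠ b → k ≠ l → transGL hne c ∈ X := by
    intro a b k l c hne hab hkl
    have two : ∀ {γ : Type} [DecidableEq γ] {u v u' v' : γ}, u ≠ v → u' ≠ v' →
        ∃ σ : Equiv.Perm γ, σ u = u' ∧ σ v = v' := by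
      intro γ _ u v u' v' huv huv'
      refine ⟨Equiv.swap (Equiv.swap u u' v) v' * Equiv.swap u u', ?_, ?_⟩
      · rw [Equiv.Perm.mul_apply, Equiv.swap_apply_left, Equiv.swap_apply_of_ne_of_ne ?_ huv']
        intro e
        exact huv ((Equiv.swap u u').injective (by rw [Equiv.swap_apply_left, ← e]))
      · rw [Equiv.Perm.mul_apply, Equiv.swap_apply_left]
    obtain ⟨σ, hσr, hσs⟩ := two hrs hab
    obtain ⟨τ, hτo, hτj⟩ := two (Ne.symm hj) hkl
    obtain ⟨A, hA, d, hd, hAv⟩ := exists_monomial (F := F) σ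
    obtain ⟨B, hB, e, he, hBv⟩ := exists_monomial (F := F) τ
    obtain ⟨c₀, hc₀⟩ : ∃ c₀, c₀ = c * (d s * e j) * (d r * e o)⁻¹ := ⟨_, rfl⟩
    have hne0 : (r, o) ≠ (s, j) := fun e => hrs (Prod.mk.inj e).1
    have hv : ∀ x i, (kr A B : Matrix (α × β) (α × β) F) x i =
        if x = (σ i.1, τ i.2) then d i.1 * e i.2 else 0 := fun x i => by
      rw [kr_val, kroneckerMap_apply, hAv, hBv]
      by_cases h1 : x.1 = σ i.1 <;> by_cases h2 : x.2 = τ i.2 <;> simp [h1, h2, Prod.ext_iff]
    have key : kr A B * transGL hne0 c₀ = transGL hne c * kr A B := by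
      refine Units.ext ?_
      rw [Units.val_mul, Units.val_mul, transGL_coe, transGL_coe, Matrix.transvection, Matrix.transvection, mul_add,
        add_mul, mul_one, one_mul]
      congr 1
      ext x i
      by_cases hi : i = (s, j)
      · subst hi
        rw [Matrix.mul_single_apply_same, hv]
        by_cases hx : x = (a, k)
        · subst hx
          rw [Matrix.single_mul_apply_same, hv, if_pos (by rw [hσr, hτo]), if_pos (by rw [hσs, hτj]), hc₀]
          field_simp [hd, he]
        · rw [Matrix.single_mul_apply_of_ne _ _ _ _ _ hx, if_neg (by rw [hσr, hτo]; exact hx), zero_mul]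
      · rw [Matrix.mul_single_apply_of_ne _ _ _ _ _ hi]
        by_cases hx : x = (a, k)
        · subst hx
          rw [Matrix.single_mul_apply_same, hv, if_neg, mul_zero]
          intro hcon
          refine hi (Prod.ext (σ.injective ?_) (τ.injective ?_))
          · rw [hσs]; exact ((Prod.mk.inj hcon).1).symm
          · rw [hτj]; exact ((Prod.mk.inj hcon).2).symm
        · rw [Matrix.single_mul_apply_of_ne _ _ _ _ _ hx]
    have hk := hN (kr_mem hA hB)
    rw [show transGL hne c = kr A B * transGL hne0 c₀ * (kr A B)⁻¹ by rw [key, mul_inv_cancel_right]]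
    exact mul_mem (mul_mem hk (hbase c₀ hne0)) (inv_mem hk)
  have comm : ∀ (p q u : α × β) (hpq : p ≠ q) (hqu : q ≠ u) (hpu : p ≠ u) (c : F),
      transGL hpq c ∈ X → transGL hqu (1 : F) ∈ X → transGL hpu c ∈ X := by
    intro p q u hpq hqu hpu c h1 h2
    have e : transGL hpq c * transGL hqu 1 = transGL hpu c * (transGL hqu 1 * transGL hpq c) := by
      refine Units.ext ?_
      simp only [Units.val_mul, transGL_coe, Matrix.transvection, add_mul, mul_add, one_mul, mul_one,
        Matrix.single_mul_single_same, Matrix.single_mul_single_of_ne _ _ _ _ hpq.symm,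
        Matrix.single_mul_single_of_ne _ _ _ _ (Ne.symm hpu), Matrix.single_mul_single_of_ne _ _ _ _ hqu.symm,
        add_zero, mul_zero]
      abel
    rw [show transGL hpu c = transGL hpq c * transGL hqu 1 * (transGL hqu 1 * transGL hpq c)⁻¹ by
      rw [e, mul_inv_cancel_right]]
    exact mul_mem (mul_mem h1 h2) (inv_mem (mul_mem h2 h1))
  obtain ⟨hβ⟩ : Nonempty (∀ k l : β, ∃ m, m ≠ k ∧ m ≠ l) := ⟨fun k l => by
    obtain ⟨m, -, hm⟩ := Finset.exists_mem_notMem_of_card_lt_card (s := {k, l}) (t := (Finset.univ : Finset β))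
      (lt_of_le_of_lt Finset.card_le_two (by rw [Finset.card_univ]; omega))
    exact ⟨m, fun h => hm (by simp [h]), fun h => hm (by simp [h])⟩⟩
  haveI : Nontrivial α := ⟨⟨r, s, hrs⟩⟩
  -- equal first coordinates
  have hsame : ∀ (a : α) (k l : β) (c : F) (hne : (a, k) ≠ (a, l)), transGL hne c ∈ X := by
    intro a k l c hne
    obtain ⟨b, hb⟩ := exists_ne a
    obtain ⟨m, hmk, hml⟩ := hβ k l
    exact comm (a, k) (b, m) (a, l) (fun e => hb (Prod.mk.inj e).1.symm) (fun e => hb (Prod.mk.inj e).1) hne c
      (hboth _ _ _ _ c _ hb.symm hmk.symm) (hboth _ _ _ _ 1 _ hb hml)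
  refine (specialLinear_le_iff X).2 ?_
  rintro ⟨a, k⟩ ⟨b, l⟩ hne c
  by_cases hab : a = b
  · subst hab; exact hsame a k l c hne
  by_cases hkl : k = l
  · subst hkl
    obtain ⟨m, hmk, -⟩ := hβ k k
    exact comm (a, k) (a, m) (b, k) (fun e => hmk (Prod.mk.inj e).2.symm) (fun e => hab (Prod.mk.inj e).1) hne c
      (hsame a k m c _) (hboth _ _ _ _ 1 _ hab hmk)
  · exact hboth a b k l c hne hab hkl

/-- Radical elements of a group without all transvections are scalar in each slot. -/
theorem scalar_of_inR (h3 : 3 ≤ Fintype.card β) (hex : (∃ a : F, a ≠ 0 ∧ a ≠ 1) ∨ 3 ≤ Fintype.card α)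
    (hX : ¬ specialLinear (α × β) F ≤ X) {φ : β → Matrix α α F} (hφ : InR X o φ) (j : β) :
    ∃ c : F, φ j = c • 1 := by
  by_contra hcon
  push Not at hcon
  have hj : j ≠ o := fun e => hcon 0 (by rw [e, hφ.1, zero_smul])
  obtain ⟨r, s, hrs, hS⟩ := slot_root hN hex (exists_slot hN h3 hφ hj) hcon
  exact hX (sl_le_of_root hN h3 hrs hS)

end Cfsg.Agent.Classical.TensorMax
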