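/-
The stabiliser of a tensor decomposition with unequal factors is maximal in the special linear group.

For an overgroup `X` without all transvections: an element of `X` conjugating a root element `1 ⊗ t` into the
stabiliser `N` lies in `N`, so a Sylow subgroup of `N` is one of `X`; as every vector is fixed by a root element,
`X` and `N` have the same orbit on simple tensors, and then `X = N`.
-/
import Cfsg.Agent.Lib.Classical.TensorMax.Linear
import Cfsg.Agent.Lib.Classical.TensorMax.Orbit
import Cfsg.Agent.Lib.Classical.RegularFactorEnd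

set_option autoImplicit false
set_option linter.unusedSectionVars false

namespace Cfsg.Agent.Classical.TensorMax

open Matrix Cfsg.Geo
open Cfsg.Agent.Classical
open scoped Kronecker

variable {F : Type*} [Field F]

section Stab

variable {α β : Type} [Fintype α] [DecidableEq α] [Fintype β] [DecidableEq β] {X : Subgroup (GL (α × β) F)} {o : β}

theorem det_rmat {φ : β → Matrix α α F} (hφ : φ o = 0) : (1 + rmat o φ).det = 1 := by
  have hz : ∀ p q : α × β, p.2 ≠ o → (1 + rmat o φ) p q = (1 : Matrix (α × β) (α × β) F) p q := fun p q hp => by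
    simp [rmat_apply, hp]
  have hz' : ∀ p q : α × β, q.2 = o → (1 + rmat o φ) p q = (1 : Matrix (α × β) (α × β) F) p q := fun p q hq => by
    by_cases hp : p.2 = o <;> simp [rmat_apply, hp, hq, hφ]
  rw [Matrix.det_apply, Finset.sum_eq_single (1 : Equiv.Perm (α × β))]
  · rw [Finset.prod_eq_one fun i _ => ?_]
    · simp
    · by_cases hi : i.2 = o
      · rw [Equiv.Perm.one_apply, hz' _ _ hi, Matrix.one_apply_eq]
      · rw [Equiv.Perm.one_apply, hz _ _ hi, Matrix.one_apply_eq]
  · intro σ _ hσ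
    suffices h : ∏ i, (1 + rmat o φ) (σ i) i = 0 by rw [h, smul_zero]
    rw [Finset.prod_eq_zero_iff]
    by_contra hcon
    push Not at hcon
    refine hσ (Equiv.ext fun i => ?_)
    have hfix : ∀ i, i.2 = o → σ i = i := fun i hi => by
      by_contra hne
      exact hcon i (Finset.mem_univ i) (by rw [hz' _ _ hi, Matrix.one_apply_ne hne])
    by_cases hi : (σ i).2 = o
    · have := hfix _ hi
      exact σ.injective this
    · by_contra hne
      exact hcon i (Finset.mem_univ i) (by rw [hz _ _ hi, Matrix.one_apply_ne (fun e : σ i = i => hne (by simpa using e))])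
  · simp

/-- An element of `X` stabilising a fibre lies in the tensor stabiliser. -/
theorem stab_fibre (hN : Ns α β F ≤ X) (hXS : X ≤ specialLinear (α × β) F) (h3 : 3 ≤ Fintype.card β)
    (hex : (∃ a : F, a ≠ 0 ∧ a ≠ 1) ∨ 3 ≤ Fintype.card α) (hX : ¬ specialLinear (α × β) F ≤ X)
    (hne : Nonempty α) {h : GL (α × β) F} (hh : h ∈ X)
    (h0 : ∀ x k y, k ≠ o → (h : Matrix (α × β) (α × β) F) (x, k) (y, o) = 0)
    (h0' : ∀ x k y, k ≠ o → ((h⁻¹ : GL (α × β) F) : Matrix (α × β) (α × β) F) (x, k) (y, o) = 0) :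
    h ∈ Kr α β F := by
  classical
  obtain ⟨H, hH⟩ : ∃ H, H = (h : Matrix (α × β) (α × β) F) := ⟨_, rfl⟩
  obtain ⟨H', hH'⟩ : ∃ H', H' = ((h⁻¹ : GL (α × β) F) : Matrix (α × β) (α × β) F) := ⟨_, rfl⟩
  have hHH : H * H' = 1 := by rw [hH, hH', ← Units.val_mul, mul_inv_cancel, Units.val_one]
  have hH'H : H' * H = 1 := by rw [hH, hH', ← Units.val_mul, inv_mul_cancel, Units.val_one]
  rw [← hH] at h0
  rw [← hH'] at h0'
  let A : Matrix α α F := Matrix.of fun x y => H (x, o) (y, o)
  let A' : Matrix α α F := Matrix.of fun x y => H' (x, o) (y, o)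
  have hAA : A' * A = 1 := Matrix.ext fun x y => by
    have e := congrFun (congrFun hH'H (x, o)) (y, o)
    rw [Matrix.mul_apply, Fintype.sum_prod_type] at e
    rw [Matrix.mul_apply]
    refine Eq.trans (Finset.sum_congr rfl fun z _ => ?_) (e.trans ?_)
    · rw [Finset.sum_eq_single o (fun k _ hk => by rw [h0 z k y hk, mul_zero]) (by simp)]
      rfl
    · simp [Matrix.one_apply]
  have hAA' : A * A' = 1 := mul_eq_one_comm.1 hAA
  let a : GL α F := ⟨A, A', hAA', hAA⟩
  -- conjugates of the scalar radical elements are scalar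
  have key : ∀ j, j ≠ o → ∃ σ : β → F, ∀ p q, (if q.2 = j then H p (q.1, o) else 0) =
      ∑ k, σ k * (if p.2 = o then H (p.1, k) q else 0) := by
    intro j hj
    haveI : Nontrivial β := ⟨⟨j, o, hj⟩⟩
    obtain ⟨g, hgX, hg⟩ : ∃ g ∈ X, (g : Matrix (α × β) (α × β) F) = 1 + rmat o (Pi.single j (1 : Matrix α α F)) := by
      refine ⟨kr 1 (transGL (Ne.symm hj) 1), hN (kr_right_mem (mem_specialLinear_iff.1 (transGL_mem _ _))), ?_⟩
      ext ⟨x, k⟩ ⟨y, i⟩
      rw [kr_val, kroneckerMap_apply, transGL_coe]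
      by_cases hk : k = o <;> by_cases hi : i = j <;> by_cases hxy : x = y <;>
        simp [rmat_apply, Matrix.transvection, Matrix.one_apply, Matrix.single_apply, hk, hi, hxy, Ne.symm, eq_comm,
          Prod.ext_iff]
    let ψ : β → Matrix α α F := fun i => Matrix.of fun x y =>
      (H * rmat o (Pi.single j (1 : Matrix α α F)) * H') (x, o) (y, i)
    have hrow : H * rmat o (Pi.single j (1 : Matrix α α F)) * H' = rmat o ψ := by
      ext ⟨x, k⟩ q
      by_cases hk : k = o
      · subst hk; simp [rmat_apply, ψ]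
      · rw [rmat_apply, if_neg hk, Matrix.mul_apply]
        refine Finset.sum_eq_zero fun l _ => ?_
        rw [Matrix.mul_apply, Finset.sum_eq_zero, zero_mul]
        intro r _
        by_cases hr : r.2 = o
        · rw [show r = (r.1, o) from Prod.ext rfl hr, h0 x k r.1 hk, zero_mul]
        · rw [rmat_apply, if_neg hr, mul_zero]
    have hψo : ψ o = 0 := Matrix.ext fun x y => by
      simp only [ψ, Matrix.of_apply, Matrix.zero_apply]
      rw [Matrix.mul_apply]
      refine Finset.sum_eq_zero fun l _ => ?_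
      by_cases hl : l.2 = o
      · rw [Matrix.mul_apply, Finset.sum_eq_zero, zero_mul]
        intro r _
        by_cases hr : r.2 = o <;> simp [rmat_apply, hr, hl, Ne.symm hj]
      · rw [show l = (l.1, l.2) from rfl, h0' l.1 l.2 y hl, mul_zero]
    have hin : InR X o ψ := ⟨hψo, h * g * h⁻¹, mul_mem (mul_mem hh hgX) (inv_mem hh), by
      rw [Units.val_mul, Units.val_mul, hg, ← hH, ← hH', mul_add, add_mul, mul_one, hHH, hrow]⟩
    choose σ hσ using scalar_of_inR hN h3 hex hX hin
    refine ⟨σ, fun p q => ?_⟩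
    have e : H * rmat o (Pi.single j (1 : Matrix α α F)) = rmat o ψ * H := by
      rw [← hrow, mul_assoc (H * rmat o (Pi.single j (1 : Matrix α α F))), hH'H, mul_one]
    have h1 := congrFun (congrFun e p) q
    rw [Matrix.mul_apply, Matrix.mul_apply, Fintype.sum_prod_type, Fintype.sum_prod_type] at h1
    refine Eq.trans ?_ (h1.trans ?_)
    · obtain ⟨y, i⟩ := q
      by_cases hi : i = j
      · subst hi
        simp [rmat_apply, Matrix.one_apply]
      · simp [rmat_apply, hi]
    · obtain ⟨x, k⟩ := p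
      by_cases hk : k = o
      · subst hk
        simp only [rmat_apply, if_true, hσ, Matrix.smul_apply, Matrix.one_apply, smul_eq_mul, mul_ite, mul_one,
          mul_zero, ite_mul, zero_mul]
        rw [Finset.sum_comm]
        simp
      · simp [rmat_apply, hk]
  choose σ hσ using key
  let D : β → β → Matrix α α F := fun k i => Matrix.of fun x y =>
    if k = o then (if i = o then H (x, o) (y, o) else 0) else H (x, k) (y, i)
  let S : Matrix β β F := Matrix.of fun j k =>
    if hj : j = o then (if k = o then 1 else 0) else (if k = o then 0 else σ j hj k)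
  have hσo : ∀ j (hj : j ≠ o), σ j hj o = 0 := fun j hj => by
    -- read off the diagonal block at the distinguished column
    obtain ⟨x₀⟩ := hne
    have h1 : ∀ x y, (0 : F) = σ j hj o * A x y := fun x y => by
      have e := hσ j hj (x, o) (y, o)
      rw [if_neg (Ne.symm hj), Finset.sum_eq_single o] at e
      · simpa [A] using e
      · intro k _ hk
        rw [if_pos rfl, h0 x k y hk, mul_zero]
      · simp
    obtain ⟨y, hy⟩ : ∃ y, A x₀ y ≠ 0 := by
      by_contra hcon
      push Not at hcon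
      have := congrFun (congrFun hAA' x₀) x₀
      rw [Matrix.mul_apply, Finset.sum_eq_zero (fun z _ => by rw [hcon z, zero_mul]), Matrix.one_apply_eq] at this
      exact zero_ne_one this
    exact (mul_eq_zero.1 (h1 x₀ y).symm).resolve_right hy
  have hSD : ∀ j i, ∑ k, S j k • D k i = if j = i then A else 0 := by
    intro j i
    by_cases hj : j = o
    · rw [hj]
      rw [Finset.sum_eq_single o (fun k _ hk => by simp [S, hk]) (by simp)]
      ext x y
      by_cases hi : i = o
      · subst hi; simp [S, D, A]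
      · simp [S, D, hi, Ne.symm hi]
    · ext x y
      have e := hσ j hj (x, o) (y, i)
      simp only at e
      rw [Matrix.sum_apply]
      refine Eq.trans (Finset.sum_congr rfl fun k _ => ?_) (e.symm.trans ?_)
      · by_cases hk : k = o
        · subst hk; simp [S, hj, hσo j hj]
        · simp [S, D, hj, hk]
      · by_cases hi : j = i
        · subst hi; simp [A]
        · simp [hi, Ne.symm hi]
  have hA0 : A ≠ 0 := fun e => by
    obtain ⟨x₀⟩ := hne
    have := congrFun (congrFun hAA' x₀) x₀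
    rw [e, zero_mul, Matrix.zero_apply, Matrix.one_apply_eq] at this
    exact zero_ne_one this
  have hSdet : S.det ≠ 0 := by
    intro hdet
    obtain ⟨c, hc, hcS⟩ := Matrix.exists_vecMul_eq_zero_iff.2 hdet
    obtain ⟨i, hi⟩ := Function.ne_iff.1 hc
    have e1 : c i • A = ∑ j, c j • ∑ k, S j k • D k i := by
      rw [Finset.sum_eq_single i (fun j _ hji => by rw [hSD, if_neg hji, smul_zero]) (by simp), hSD, if_pos rfl]
    have e2 : ∑ j, c j • ∑ k, S j k • D k i = ∑ k, (Matrix.vecMul c S) k • D k i := by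
      simp only [Finset.smul_sum, smul_smul, Matrix.vecMul, dotProduct, Finset.sum_smul]
      exact Finset.sum_comm
    rw [e2, hcS] at e1
    simp only [Pi.zero_apply, zero_smul, Finset.sum_const_zero] at e1
    exact hA0 ((smul_eq_zero.1 e1).resolve_left hi)
  let bS : GL β F := ((Matrix.isUnit_iff_isUnit_det S).2 (isUnit_iff_ne_zero.2 hSdet)).unit
  obtain ⟨B, hB⟩ : ∃ B : Matrix β β F, B = ((bS⁻¹ : GL β F) : Matrix β β F) := ⟨_, rfl⟩
  have hBS : B * S = 1 := by
    rw [hB, show S = (bS : Matrix β β F) from (IsUnit.unit_spec _).symm, ← Units.val_mul, inv_mul_cancel, Units.val_one]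
  have hD : ∀ k i, D k i = B k i • A := fun k i => by
    calc D k i = ∑ l, (B * S) k l • D l i := by simp [hBS, Matrix.one_apply]
      _ = ∑ j, B k j • ∑ l, S j l • D l i := by
        simp only [Matrix.mul_apply, Finset.sum_smul, Finset.smul_sum, smul_smul]
        exact Finset.sum_comm
      _ = B k i • A := by
        rw [Finset.sum_eq_single i (fun j _ hji => by rw [hSD, if_neg hji, smul_zero]) (by simp), hSD, if_pos rfl]
  have hBo : ∀ k, B k o = if k = o then 1 else 0 := fun k => by
    have e := congrFun (congrFun hBS k) o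
    rw [Matrix.mul_apply, Finset.sum_eq_single o (fun j _ hj => by simp [S, hj]) (by simp)] at e
    simpa [S, Matrix.one_apply] using e
  let φ : β → Matrix α α F := fun i => if i = o then 0 else A' * Matrix.of fun x y => H (x, o) (y, i)
  have hfac : H = (kr a bS⁻¹ : Matrix (α × β) (α × β) F) * (1 + rmat o φ) := by
    rw [kr_val, ← hB, mul_add, mul_one, left_mul_rmat o φ _ hBo]
    ext ⟨x, k⟩ ⟨y, i⟩
    rw [Matrix.add_apply, kroneckerMap_apply, rmat_apply]
    have e := congrFun (congrFun (hD k i) x) y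
    rw [Matrix.smul_apply, smul_eq_mul] at e
    rw [show (a : Matrix α α F) x y * B k i = B k i * A x y from mul_comm _ _, ← e]
    by_cases hk : k = o <;> by_cases hi : i = o
    · subst hk; subst hi; simp [D, φ]
    · subst hk
      simp only [D, Matrix.of_apply, if_true, hi, if_false, zero_add, φ]
      show _ = (A * (A' * Matrix.of fun x y => H (x, k) (y, i))) x y
      rw [← mul_assoc, hAA', one_mul]; rfl
    · subst hi
      simp [D, hk, h0 x k y hk]
    · simp [D, hk]
  have hdetn : (kr a bS⁻¹ : Matrix (α × β) (α × β) F).det = 1 := by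
    have := congrArg Matrix.det hfac
    rw [Matrix.det_mul, det_rmat (by simp [φ]), mul_one, hH, mem_specialLinear_iff.1 (hXS hh)] at this
    exact this.symm
  have hn : kr a bS⁻¹ ∈ Ns α β F := ⟨⟨a, bS⁻¹, rfl⟩, mem_specialLinear_iff.2 hdetn⟩
  have hin : InR X o φ := ⟨by simp [φ], (kr a bS⁻¹)⁻¹ * h, mul_mem (inv_mem (hN hn)) hh, by
    rw [Units.val_mul, ← hH, hfac, ← mul_assoc, ← Units.val_mul, inv_mul_cancel, Units.val_one, one_mul]⟩
  choose c hc using scalar_of_inR hN h3 hex hX hin
  have hco : ∀ i, i = o → c i = 0 := fun i hi => by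
    subst hi
    obtain ⟨x₀⟩ := hne
    have := congrFun (congrFun (hc i) x₀) x₀
    simpa [φ] using this.symm
  let T : Matrix β β F := 1 + Matrix.of fun k i => if k = o then c i else 0
  have hTdet : IsUnit T.det := by
    refine IsUnit.of_mul_eq_one (1 - Matrix.of fun k i => if k = o then c i else 0).det ?_
    rw [← Matrix.det_mul]
    have e : (Matrix.of fun k i => if k = o then c i else 0) * (Matrix.of fun k i => if k = o then c i else 0) =
        (0 : Matrix β β F) := by
      ext k i
      rw [Matrix.mul_apply, Matrix.zero_apply]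
      refine Finset.sum_eq_zero fun l _ => ?_
      by_cases hl : l = o <;> by_cases hk : k = o <;> simp [hl, hk, hco]
    simp only [T, add_mul, one_mul, mul_sub, mul_one, e, sub_zero]
    simp
  have hlast : (kr a bS⁻¹)⁻¹ * h = kr (1 : GL α F) (((Matrix.isUnit_iff_isUnit_det T).2 hTdet).unit) := by
    refine Units.ext ?_
    rw [kr_val, IsUnit.unit_spec, Units.val_mul, ← hH, hfac, ← mul_assoc, ← Units.val_mul, inv_mul_cancel,
      Units.val_one, one_mul]
    ext ⟨x, k⟩ ⟨y, i⟩
    by_cases hk : k = o <;> by_cases hxy : x = y <;>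
      simp [T, rmat_apply, hc, Matrix.one_apply, Prod.ext_iff, hk, hxy]
  rw [show h = kr a bS⁻¹ * ((kr a bS⁻¹)⁻¹ * h) by group, hlast, kr_mul]
  exact ⟨_, _, rfl⟩

end Stab

section Roots

variable {n₁ n₂ : ℕ}

local notation "κ" => Fin n₁ × Fin n₂

/-- Root elements: `1 ⊗ t` with `t` a transvection. -/
def IsRoot (g : GL κ F) : Prop :=
  ∃ f l : Fin n₂ → F, f ≠ 0 ∧ l ≠ 0 ∧ l ⬝ᵥ f = 0 ∧
    (g : Matrix κ κ F) = (1 : Matrix (Fin n₁) (Fin n₁) F) ⊗ₖ (1 + vecMulVec f l)

/-- The standard root. -/
def root₀ (hn : 3 ≤ n₂) : GL κ F :=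
  kr 1 (transGL (i := (⟨0, by omega⟩ : Fin n₂)) (j := ⟨n₂ - 1, by omega⟩) (by rw [ne_eq, Fin.ext_iff]; simp only; omega) 1)

theorem exists_root (hn : 3 ≤ n₂) {f l : Fin n₂ → F} (hf : f ≠ 0) (hl : l ≠ 0) (hlf : l ⬝ᵥ f = 0) :
    ∃ g : GL κ F, g ∈ Ns (Fin n₁) (Fin n₂) F ∧
      ((g * root₀ hn * g⁻¹ : GL κ F) : Matrix κ κ F) = (1 : Matrix (Fin n₁) (Fin n₁) F) ⊗ₖ (1 + vecMulVec f l) := by
  classical
  let r : Module.Dual F (Fin n₂ → F) :=
    { toFun := fun v => l ⬝ᵥ v, map_add' := fun a b => dotProduct_add _ _ _,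
      map_smul' := fun c v => by simp [dotProduct_smul] }
  have hr : r ≠ 0 := fun e => hl (funext fun i => by
    simpa [r, dotProduct_single] using LinearMap.congr_fun e (Pi.single i 1))
  obtain ⟨u, hu, hu0, hur⟩ := RegularFactor.exists_frame (by omega) f hf r hlf hr
  let P : Matrix (Fin n₂) (Fin n₂) F := Matrix.of fun i j => u j i
  have hP : IsUnit P := Matrix.linearIndependent_cols_iff_isUnit.1 hu
  have hd : P.det ≠ 0 := ((Matrix.isUnit_iff_isUnit_det P).1 hP).ne_zero
  let o : Fin n₂ := ⟨0, by omega⟩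
  let j₁ : Fin n₂ := ⟨1, by omega⟩
  let j₀ : Fin n₂ := ⟨n₂ - 1, by omega⟩
  have h01 : o ≠ j₁ := by simp [o, j₁]
  have h10 : j₁ ≠ j₀ := by simp [j₁, j₀, Fin.ext_iff]; omega
  let B : Matrix (Fin n₂) (Fin n₂) F := P.updateCol j₁ (P.det⁻¹ • fun i => P i j₁)
  have hBd : B.det = 1 := by
    rw [Matrix.det_updateCol_smul, inv_mul_eq_one₀ hd]
    congr 1
    ext i j
    by_cases hj : j = j₁ <;> simp [hj]
  let b : GL (Fin n₂) F := ((Matrix.isUnit_iff_isUnit_det B).2 (hBd ▸ isUnit_one)).unit
  have hbv : (b : Matrix (Fin n₂) (Fin n₂) F) = B := IsUnit.unit_spec _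
  refine ⟨kr 1 b, kr_right_mem (hbv.symm ▸ hBd), ?_⟩
  have hBo : ∀ i, B i o = f i := fun i => by
    simp only [B, Matrix.updateCol_ne h01, P, Matrix.of_apply]
    exact congrFun hu0 i
  have hlB : ∀ j, ∑ i, l i * B i j = if j = j₀ then 1 else 0 := fun j => by
    by_cases hj : j = j₁
    · subst hj
      have h1 : l ⬝ᵥ u j₁ = 0 := (hur j₁).trans (if_neg (by simp [j₁]; omega))
      simp only [B, Matrix.updateCol_self, Pi.smul_apply, smul_eq_mul, if_neg h10, P, Matrix.of_apply]
      rw [← Finset.sum_congr rfl fun i _ => mul_left_comm (P.det⁻¹) (l i) (u j₁ i), ← Finset.mul_sum]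
      rw [show ∑ i, l i * u j₁ i = l ⬝ᵥ u j₁ from rfl, h1, mul_zero]
    · simp only [B, Matrix.updateCol_ne hj, P, Matrix.of_apply]
      refine (hur j).trans ?_
      simp [j₀, Fin.ext_iff]
  rw [root₀, kr_mul, kr_inv, kr_mul, kr_val]
  simp only [inv_one, mul_one, Units.val_one]
  congr 1
  have e : B * Matrix.transvection o j₀ (1 : F) = (1 + vecMulVec f l) * B := by
    rw [Matrix.transvection, mul_add, add_mul, mul_one, one_mul]
    congr 1
    ext i j
    rw [Matrix.mul_apply, Finset.sum_eq_single o (fun k _ hk => by simp [Matrix.single_apply, Ne.symm hk]) (by simp),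
      hBo, Matrix.mul_apply]
    simp only [vecMulVec_apply, mul_assoc, ← Finset.mul_sum, hlB]
    by_cases hj : j = j₀ <;> simp [Matrix.single_apply, hj, Ne.symm, eq_comm]
  rw [Units.val_mul, Units.val_mul, transGL_coe, hbv, e, mul_assoc, ← hbv, ← Units.val_mul, mul_inv_cancel,
    Units.val_one, mul_one]

theorem root_conj (hn : 3 ≤ n₂) {z : GL κ F} (hz : IsRoot z) :
    ∃ g ∈ Ns (Fin n₁) (Fin n₂) F, z = g * root₀ hn * g⁻¹ := by
  obtain ⟨f, l, hf, hl, hlf, hv⟩ := hz
  obtain ⟨g, hg, e⟩ := exists_root hn hf hl hlf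
  exact ⟨g, hg, Units.ext (hv.trans e.symm)⟩

theorem root₀_mem (hn : 3 ≤ n₂) : (root₀ hn : GL κ F) ∈ Ns (Fin n₁) (Fin n₂) F :=
  kr_right_mem (mem_specialLinear_iff.1 (transGL_mem _ _))

theorem root₀_pow (hn : 3 ≤ n₂) (p : ℕ) [CharP F p] : (root₀ hn : GL κ F) ^ p = 1 := by
  obtain ⟨i, hi⟩ : ∃ i : Fin n₂, i = ⟨0, by omega⟩ := ⟨_, rfl⟩
  obtain ⟨j, hj⟩ : ∃ j : Fin n₂, j = ⟨n₂ - 1, by omega⟩ := ⟨_, rfl⟩
  have hij : i ≠ j := by rw [hi, hj, ne_eq, Fin.ext_iff]; simp only; omega
  have key : ∀ k : ℕ, (kr (1 : GL (Fin n₁) F) (transGL hij (1 : F))) ^ k = kr 1 (transGL hij (k : F)) := by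
    intro k
    induction k with
    | zero =>
      rw [pow_zero, Nat.cast_zero, show transGL hij (0 : F) = 1 from Units.ext (by
        rw [transGL_coe, Matrix.transvection_zero, Units.val_one]), kr_one]
    | succ k ih =>
      rw [pow_succ, ih, kr_mul, mul_one]
      congr 1
      refine Units.ext ?_
      rw [Units.val_mul, transGL_coe, transGL_coe, transGL_coe, Matrix.transvection_mul_transvection_same _ _ hij,
        Nat.cast_succ]
  subst hi hj
  rw [root₀, key, CharP.cast_eq_zero, show transGL hij (0 : F) = 1 from Units.ext (by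
    rw [transGL_coe, Matrix.transvection_zero, Units.val_one]), kr_one]

theorem isPGroup_root (hn : 3 ≤ n₂) (p : ℕ) [Fact p.Prime] [CharP F p] {z : GL κ F} (hz : IsRoot z) :
    IsPGroup p (Subgroup.zpowers z) := by
  obtain ⟨g, -, rfl⟩ := root_conj hn hz
  rintro ⟨x, k, rfl⟩
  refine ⟨1, Subtype.ext ?_⟩
  simp only [SubmonoidClass.coe_pow, pow_one, OneMemClass.coe_one]
  rw [← zpow_natCast, ← _root_.zpow_mul, mul_comm, _root_.zpow_mul, zpow_natCast, conj_pow, root₀_pow hn p]
  simp

end Roots

end Cfsg.Agent.Classical.TensorMax
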