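/-
Unipotent Kronecker products of small residual rank.
-/
import Cfsg.Agent.Lib.Classical.TensorMax.Main

set_option autoImplicit false
set_option linter.unusedSectionVars false

namespace Cfsg.Agent.Classical.TensorMax

open Matrix
open Cfsg.Agent.Classical
open scoped Kronecker

variable {F : Type*} [Field F] {n₁ n₂ : ℕ}

theorem card_le_rank {γ : Type} [Fintype γ] [DecidableEq γ] {κ : Type} [Fintype κ] [DecidableEq κ] (M : Matrix κ κ F)
    (W : Matrix κ γ F) (h : ∀ y : γ → F, M *ᵥ (W *ᵥ y) = 0 → y = 0) : Fintype.card γ ≤ M.rank := by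
  have h1 : (M * W).rank = Fintype.card γ := by
    rw [Matrix.rank, LinearMap.finrank_range_of_inj, Module.finrank_fintype_fun_eq_card]
    intro x y e
    simp only [Matrix.mulVecLin_apply] at e
    refine sub_eq_zero.1 (h _ ?_)
    rw [Matrix.mulVec_mulVec, Matrix.mulVec_sub, e, sub_self]
  exact h1 ▸ Matrix.rank_mul_le_left M W

/-- A non-trivial nilpotent matrix has a vector sent to a non-zero fixed vector of its kernel. -/
theorem exists_chain {m : ℕ} {N : Matrix (Fin m) (Fin m) F} (hN : N ≠ 0) {k : ℕ} (hk : N ^ k = 0) :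
    ∃ e : Fin m → F, N *ᵥ e ≠ 0 ∧ N *ᵥ (N *ᵥ e) = 0 := by
  induction k with
  | zero => exact absurd (by rw [← mul_one N, ← pow_zero N, hk, mul_zero]) hN
  | succ k ih =>
    by_cases hk' : N ^ k = 0
    · exact ih hk'
    rcases k with _ | k
    · exact absurd (by rwa [pow_one] at hk) hN
    obtain ⟨e, he⟩ : ∃ e, (N ^ (k + 1)) *ᵥ e ≠ 0 := by
      by_contra hcon
      push Not at hcon
      exact hk' (Matrix.ext_of_mulVec_single fun i => by rw [hcon, Matrix.zero_mulVec])
    refine ⟨(N ^ k) *ᵥ e, ?_, ?_⟩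
    · rwa [Matrix.mulVec_mulVec, ← pow_succ']
    · rw [Matrix.mulVec_mulVec, Matrix.mulVec_mulVec, ← pow_two, ← pow_add, add_comm, hk, Matrix.zero_mulVec]

theorem normalise [Fintype F] (p : ℕ) [Fact p.Prime] [CharP F p] (h1 : 0 < n₁) {a : GL (Fin n₁) F}
    {b : GL (Fin n₂) F} (h2 : 0 < n₂) {k : ℕ} (hk : (kr a b) ^ p ^ k = 1) :
    ∃ A : Matrix (Fin n₁) (Fin n₁) F, ∃ B : Matrix (Fin n₂) (Fin n₂) F,
      (kr a b : Matrix (Fin n₁ × Fin n₂) (Fin n₁ × Fin n₂) F) = A ⊗ₖ B ∧ A ^ p ^ k = 1 ∧ B ^ p ^ k = 1 := by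
  have hpow : ∀ m : ℕ, (kr a b) ^ m = kr (a ^ m) (b ^ m) := fun m => by
    induction m with
    | zero => rw [pow_zero, pow_zero, pow_zero, kr_one]
    | succ m ih => rw [pow_succ, ih, kr_mul, ← pow_succ, ← pow_succ]
  obtain ⟨Aq, hAq⟩ : ∃ Aq, Aq = (a : Matrix (Fin n₁) (Fin n₁) F) ^ p ^ k := ⟨_, rfl⟩
  obtain ⟨Bq, hBq⟩ : ∃ Bq, Bq = (b : Matrix (Fin n₂) (Fin n₂) F) ^ p ^ k := ⟨_, rfl⟩
  have e : ∀ x y i j, Aq x y * Bq i j = if x = y ∧ i = j then 1 else 0 := fun x y i j => by
    have h := congrArg (fun g : GL (Fin n₁ × Fin n₂) F => (g : Matrix _ _ F) (x, i) (y, j)) hk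
    simp only [hpow, kr_val, Units.val_pow_eq_pow_val, Units.val_one, kroneckerMap_apply, ← hAq, ← hBq] at h
    rw [h]
    simp [Matrix.one_apply, Prod.ext_iff]
  let x₀ : Fin n₁ := ⟨0, h1⟩
  let i₀ : Fin n₂ := ⟨0, h2⟩
  obtain ⟨c, hc⟩ : ∃ c, c = Aq x₀ x₀ := ⟨_, rfl⟩
  have hc' : c * Bq i₀ i₀ = 1 := by rw [hc, e]; simp
  have hc0 : c ≠ 0 := left_ne_zero_of_mul_eq_one hc'
  have hA : Aq = c • 1 := Matrix.ext fun x y => by
    have h := e x y i₀ i₀
    by_cases hxy : x = y
    · subst hxy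
      rw [if_pos ⟨rfl, rfl⟩] at h
      rw [Matrix.smul_apply, Matrix.one_apply_eq, smul_eq_mul, mul_one]
      have hB0 := right_ne_zero_of_mul_eq_one hc'
      exact mul_right_cancel₀ hB0 (h.trans hc'.symm)
    · rw [if_neg fun hh => hxy hh.1] at h
      rw [Matrix.smul_apply, Matrix.one_apply_ne hxy, smul_zero]
      exact (mul_eq_zero.1 h).resolve_right (right_ne_zero_of_mul_eq_one hc')
  have hB : Bq = c⁻¹ • 1 := Matrix.ext fun i j => by
    have h := e x₀ x₀ i j
    rw [← hc] at h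
    by_cases hij : i = j
    · subst hij
      rw [if_pos ⟨rfl, rfl⟩] at h
      rw [Matrix.smul_apply, Matrix.one_apply_eq, smul_eq_mul, mul_one]
      exact eq_inv_of_mul_eq_one_right h
    · rw [if_neg fun hh => hij hh.2] at h
      rw [Matrix.smul_apply, Matrix.one_apply_ne hij, smul_zero]
      exact (mul_eq_zero.1 h).resolve_left hc0
  obtain ⟨d, hd⟩ : ∃ d : F, d ^ p ^ k = c := by
    have := (Finite.injective_iff_surjective.1 (iterateFrobenius F p k).injective) c
    simpa [iterateFrobenius_def] using this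
  have hd0 : d ≠ 0 := fun e' => hc0 (by rw [← hd, e', zero_pow (pow_ne_zero k (Fact.out : p.Prime).ne_zero)])
  refine ⟨d⁻¹ • (a : Matrix (Fin n₁) (Fin n₁) F), d • (b : Matrix (Fin n₂) (Fin n₂) F), ?_, ?_, ?_⟩
  · rw [kr_val, Matrix.smul_kronecker, Matrix.kronecker_smul, smul_smul, inv_mul_cancel₀ hd0, one_smul]
  · rw [smul_pow, ← hAq, hA, smul_smul, inv_pow, hd, inv_mul_cancel₀ hc0, one_smul]
  · rw [smul_pow, ← hBq, hB, smul_smul, hd, mul_inv_cancel₀ hc0, one_smul]

/-- A unipotent Kronecker product with small residual rank is a root element. -/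
theorem isRoot_of_rank [Fintype F] (p : ℕ) [Fact p.Prime] [CharP F p] (h1 : 2 ≤ n₁) (h12 : n₁ < n₂)
    {u : GL (Fin n₁ × Fin n₂) F} (hu : u ∈ Kr (Fin n₁) (Fin n₂) F) {k : ℕ} (hk : u ^ p ^ k = 1) (hne : u ≠ 1)
    (hrank : ((u : Matrix (Fin n₁ × Fin n₂) (Fin n₁ × Fin n₂) F) - 1).rank ≤ n₁) : IsRoot u := by
  obtain ⟨a, b, rfl⟩ := hu
  haveI : Nonempty (Fin n₁) := ⟨⟨0, by omega⟩⟩
  haveI : Nonempty (Fin n₂) := ⟨⟨0, by omega⟩⟩
  obtain ⟨A, B, hAB, hA, hB⟩ := normalise p (by omega) (by omega) hk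
  rw [hAB] at hrank
  have hAn : (A - 1) ^ p ^ k = 0 := by
    rw [sub_pow_char_pow_of_commute (p := p) _ (Commute.one_right A), hA, one_pow, sub_self]
  have hBn : (B - 1) ^ p ^ k = 0 := by
    rw [sub_pow_char_pow_of_commute (p := p) _ (Commute.one_right B), hB, one_pow, sub_self]
  have hBu : IsUnit B := IsUnit.of_pow_eq_one hB (pow_ne_zero k (Fact.out : p.Prime).ne_zero)
  have hBinj : ∀ y, B *ᵥ y = 0 → y = 0 := fun y hy =>
    (Matrix.mulVec_injective_iff_isUnit.2 hBu) (hy.trans (Matrix.mulVec_zero B).symm)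
  have hA1 : A = 1 := by
    by_contra hne'
    obtain ⟨e, he, he2⟩ := exists_chain (sub_ne_zero.2 hne') hAn
    obtain ⟨e', he'⟩ : ∃ e', e' = (A - 1) *ᵥ e := ⟨_, rfl⟩
    let W : Matrix (Fin n₁ × Fin n₂) (Fin n₂) F := Matrix.of fun p' j => if p'.2 = j then e p'.1 else 0
    have := card_le_rank (A ⊗ₖ B - 1) W fun y hy => ?_
    · rw [Fintype.card_fin] at this; omega
    · have hW : W *ᵥ y = fun p' => e p'.1 * y p'.2 := funext fun p' => by
        simp [W, Matrix.mulVec, dotProduct]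
      have h2 : ∀ x j, (A *ᵥ e) x * (B *ᵥ y) j - e x * y j = 0 := fun x j => by
        have h := congrFun hy (x, j)
        rw [Matrix.sub_mulVec, Matrix.one_mulVec, hW, Pi.sub_apply] at h
        refine Eq.trans ?_ h
        congr 1
        simp only [Matrix.mulVec, dotProduct, kroneckerMap_apply, Finset.sum_mul_sum, Fintype.sum_prod_type]
        exact Finset.sum_congr rfl fun z _ => Finset.sum_congr rfl fun w _ => by ring
      have hAe : ∀ x, (A *ᵥ e) x = e x + e' x := fun x => by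
        rw [he', Matrix.sub_mulVec, Matrix.one_mulVec, Pi.sub_apply]; ring
      have hAe' : A *ᵥ e' = e' := by
        rw [← sub_eq_zero, ← he2, ← he', Matrix.sub_mulVec, Matrix.one_mulVec]
      refine hBinj y (funext fun j => ?_)
      by_contra hj
      -- apply `A - 1` in the first coordinate
      have h3 : (A - 1) *ᵥ (fun x => (A *ᵥ e) x * (B *ᵥ y) j - e x * y j) = 0 := by
        simp only [h2]; exact Matrix.mulVec_zero _
      have h4 : (fun x => (A *ᵥ e) x * (B *ᵥ y) j - e x * y j) =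
          (B *ᵥ y) j • (A *ᵥ e) - y j • e := funext fun x => by simp [mul_comm]
      rw [h4, Matrix.mulVec_sub, Matrix.mulVec_smul, Matrix.mulVec_smul, ← he', Matrix.mulVec_mulVec, sub_mul,
        one_mul, Matrix.sub_mulVec] at h3
      have h5 : (A * A) *ᵥ e - A *ᵥ e = e' := by
        rw [← Matrix.mulVec_mulVec, show A *ᵥ e = e + e' from funext hAe, Matrix.mulVec_add, hAe',
          show A *ᵥ e = e + e' from funext hAe, add_sub_cancel_left]
      rw [h5, ← sub_smul, smul_eq_zero] at h3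
      have hBy : (B *ᵥ y) j = y j := sub_eq_zero.1 (h3.resolve_right (he' ▸ he))
      obtain ⟨x, hx⟩ := Function.ne_iff.1 (he' ▸ he : e' ≠ 0)
      have h6 := h2 x j
      rw [hAe, hBy, add_mul, add_sub_cancel_left, mul_eq_zero] at h6
      rcases h6 with h6 | h6
      · exact hx h6
      · exact hj (by rw [hBy]; exact h6)
  subst hA1
  have hC0 : B - 1 ≠ 0 := fun e => hne (Units.ext (by
    rw [hAB, sub_eq_zero.1 e, Matrix.one_kronecker_one, Units.val_one]))
  have hker : (1 : Matrix (Fin n₁) (Fin n₁) F) ⊗ₖ B - 1 = 1 ⊗ₖ (B - 1) := by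
    ext p' q'
    by_cases hx : p'.1 = q'.1 <;> by_cases hi : p'.2 = q'.2 <;>
      simp [Matrix.one_apply, Prod.ext_iff, hx, hi]
  rw [hker] at hrank
  obtain ⟨C, hC⟩ : ∃ C, C = B - 1 := ⟨_, rfl⟩
  rw [← hC] at hC0 hrank hBn
  obtain ⟨k₀, hk₀⟩ : ∃ k₀, C *ᵥ Pi.single k₀ 1 ≠ 0 := by
    by_contra hcon
    push Not at hcon
    exact hC0 (Matrix.ext_of_mulVec_single fun i => by rw [hcon, Matrix.zero_mulVec])
  obtain ⟨f, hf⟩ : ∃ f, f = C *ᵥ Pi.single k₀ 1 := ⟨_, rfl⟩
  have hdep : ∀ y, ∃ c : F, C *ᵥ y = c • f := by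
    intro y
    by_contra hcon
    push Not at hcon
    let W : Matrix (Fin n₁ × Fin n₂) (Fin n₁ ⊕ Fin n₁) F :=
      Matrix.of fun p' t => Sum.elim (fun x => if p'.1 = x then (Pi.single k₀ 1 : Fin n₂ → F) p'.2 else 0)
        (fun x => if p'.1 = x then y p'.2 else 0) t
    have := card_le_rank ((1 : Matrix (Fin n₁) (Fin n₁) F) ⊗ₖ C) W fun w hw => ?_
    · rw [Fintype.card_sum, Fintype.card_fin] at this; omega
    · have h2 : ∀ x i, w (Sum.inl x) * f i + w (Sum.inr x) * (C *ᵥ y) i = 0 := fun x i => by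
        have h := congrFun hw (x, i)
        rw [Matrix.mulVec, dotProduct, Fintype.sum_prod_type] at h
        rw [Finset.sum_eq_single x (fun z _ hz => by simp [Matrix.one_apply_ne (Ne.symm hz)]) (by simp)] at h
        refine Eq.trans ?_ h
        rw [hf]
        simp only [Matrix.mulVec, dotProduct, kroneckerMap_apply, Matrix.one_apply_eq, one_mul, Fintype.sum_sum_type,
          W, Matrix.of_apply, Sum.elim_inl, Sum.elim_inr, ite_mul, zero_mul, Finset.sum_ite_eq, Finset.mem_univ,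
          if_true, Finset.mul_sum, ← Finset.sum_add_distrib]
        exact Finset.sum_congr rfl fun j _ => by ring
      funext t
      have hz : ∀ x, w (Sum.inl x) = 0 ∧ w (Sum.inr x) = 0 := fun x => by
        have hr : w (Sum.inr x) = 0 := by
          by_contra hr
          refine hcon (-(w (Sum.inr x))⁻¹ * w (Sum.inl x)) (funext fun i => ?_)
          have := h2 x i
          rw [Pi.smul_apply, smul_eq_mul]
          field_simp
          linear_combination this
        refine ⟨?_, hr⟩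
        obtain ⟨i, hi⟩ := Function.ne_iff.1 (hf ▸ hk₀ : f ≠ 0)
        have := h2 x i
        rw [hr, zero_mul, add_zero, mul_eq_zero] at this
        exact this.resolve_right hi
      rcases t with x | x
      · exact (hz x).1
      · exact (hz x).2
  choose l hl using fun i => hdep (Pi.single i 1)
  have hCf : C = vecMulVec f l := Matrix.ext fun i j => by
    have := congrFun (hl j) i
    rw [Matrix.mulVec_single_one, Matrix.col_apply, Pi.smul_apply, smul_eq_mul] at this
    rw [this, vecMulVec_apply, mul_comm]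
  have hl0 : l ≠ 0 := fun e => hC0 (Matrix.ext fun i j => by rw [hCf, vecMulVec_apply, e, Pi.zero_apply, mul_zero]; rfl)
  have hlf : l ⬝ᵥ f = 0 := by
    by_contra hlf
    have hpow : ∀ m : ℕ, C ^ (m + 1) = (l ⬝ᵥ f) ^ m • C := fun m => by
      induction m with
      | zero => simp
      | succ m ih =>
        rw [pow_succ, ih, smul_mul_assoc, pow_succ, ← smul_smul]
        congr 1
        rw [hCf, Matrix.vecMulVec_mul_vecMulVec, vecMulVec_smul]
    have h := hpow (p ^ k)
    rw [pow_succ, hBn, zero_mul] at h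
    exact hC0 ((smul_eq_zero.1 h.symm).resolve_left (pow_ne_zero _ hlf))
  refine ⟨f, l, hf ▸ hk₀, hl0, hlf, ?_⟩
  rw [hAB, ← hCf, hC, add_sub_cancel]

end Cfsg.Agent.Classical.TensorMax
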