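/-
Maximality of tensor product stabilisers in the special linear group.
-/
import Cfsg.Agent.Lib.Classical.TensorMax.RankOne

set_option autoImplicit false
set_option linter.unusedSectionVars false

namespace Cfsg.Agent.Classical.TensorMax

open Matrix Cfsg.Geo
open Cfsg.Agent.Classical
open scoped Kronecker

variable {F : Type*} [Field F] {n₁ n₂ : ℕ}

local notation "κ" => Fin n₁ × Fin n₂

/-- The pointwise stabiliser of a family of vectors. -/
def fixer {γ : Type} (W : γ → (κ → F)) : Subgroup (GL κ F) where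
  carrier := {g | ∀ y, (g : Matrix κ κ F) *ᵥ W y = W y}
  mul_mem' {g h} hg hh y := by rw [gl_mul_mulVec, hh y, hg y]
  one_mem' y := by simp
  inv_mem' {g} hg y := by rw [← hg y, gl_inv_mulVec_cancel, hg y]

theorem mem_fixer {γ : Type} {W : γ → (κ → F)} {g : GL κ F} :
    g ∈ fixer W ↔ ∀ y, (g : Matrix κ κ F) *ᵥ W y = W y := Iff.rfl

theorem exists_ann {m k : ℕ} (h : m < k) (B : Matrix (Fin m) (Fin k) F) :
    ∃ l : Fin k → F, l ≠ 0 ∧ B *ᵥ l = 0 := by
  by_contra hcon
  push Not at hcon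
  have hinj : Function.Injective B.mulVecLin := by
    intro x y e
    by_contra hne
    refine hcon (x - y) (sub_ne_zero.2 hne) ?_
    simp only [Matrix.mulVecLin_apply] at e
    rw [Matrix.mulVec_sub, e, sub_self]
  have := LinearMap.finrank_le_finrank_of_injective hinj
  simp only [Module.finrank_fintype_fun_eq_card, Fintype.card_fin] at this
  omega

/-- A family whose supports are killed by a functional is fixed by a root element. -/
theorem exists_root_fix (hn : 3 ≤ n₂) {γ : Type} (W : γ → (κ → F)) {l : Fin n₂ → F} (hl : l ≠ 0)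
    (h : ∀ y x, ∑ i, l i * W y (x, i) = 0) : ∃ z : GL κ F, IsRoot z ∧ z ∈ fixer W := by
  obtain ⟨f, hf, hlf⟩ := exists_ann (show 1 < n₂ by omega) (Matrix.of fun (_ : Fin 1) i => l i)
  have hlf' : l ⬝ᵥ f = 0 := congrFun hlf 0
  obtain ⟨g, -, hg⟩ := exists_root (F := F) (n₁ := n₁) hn hf hl hlf'
  refine ⟨_, ⟨f, l, hf, hl, hlf', hg⟩, fun y => funext fun p => ?_⟩
  rw [hg, Matrix.mulVec, dotProduct, Fintype.sum_prod_type,
    Finset.sum_eq_single p.1 (fun z _ hz => by simp [Matrix.one_apply_ne (Ne.symm hz)]) (by simp)]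
  simp only [kroneckerMap_apply, Matrix.one_apply_eq, one_mul, Matrix.add_apply, add_mul, Finset.sum_add_distrib,
    vecMulVec_apply, Matrix.one_apply, ite_mul, zero_mul, Finset.sum_ite_eq, Finset.mem_univ, if_true]
  rw [Finset.sum_congr rfl fun i _ => mul_assoc (f p.2) (l i) (W y (p.1, i)), ← Finset.mul_sum, h, mul_zero,
    add_zero]

variable [Fintype F] {X : Subgroup (GL (Fin n₁ × Fin n₂) F)}

/-- Only elements of the stabiliser move root elements into it. -/
theorem moves (p : ℕ) [Fact p.Prime] [CharP F p] (h1 : 2 ≤ n₁) (h12 : n₁ < n₂)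
    (hex : (∃ a : F, a ≠ 0 ∧ a ≠ 1) ∨ 3 ≤ n₁) (hN : Ns (Fin n₁) (Fin n₂) F ≤ X) (hXS : X ≤ specialLinear κ F)
    (hX : ¬ specialLinear κ F ≤ X) {g : GL κ F} (hg : g ∈ X) {z : GL κ F} (hz : IsRoot z)
    (hmem : g * z * g⁻¹ ∈ Ns (Fin n₁) (Fin n₂) F) : g ∈ Ns (Fin n₁) (Fin n₂) F := by
  classical
  have hn : 3 ≤ n₂ := by omega
  obtain ⟨f, l, hf, hl, hlf, hv⟩ := id hz
  have hrank : (((g * z * g⁻¹ : GL κ F) : Matrix κ κ F) - 1).rank ≤ n₁ := by
    have e : ((g * z * g⁻¹ : GL κ F) : Matrix κ κ F) - 1 =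
        ((g : Matrix κ κ F) * (Matrix.of fun (p' : κ) (x : Fin n₁) => if p'.1 = x then f p'.2 else 0)) *
          ((Matrix.of fun (x : Fin n₁) (p' : κ) => if p'.1 = x then l p'.2 else 0) *
            ((g⁻¹ : GL κ F) : Matrix κ κ F)) := by
      have hz1 : (z : Matrix κ κ F) - 1 = (Matrix.of fun (p' : κ) (x : Fin n₁) => if p'.1 = x then f p'.2 else 0) *
          (Matrix.of fun (x : Fin n₁) (p' : κ) => if p'.1 = x then l p'.2 else 0) := by
        rw [hv]
        ext ⟨x, i⟩ ⟨y, j⟩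
        rw [Matrix.mul_apply, Finset.sum_eq_single x (fun c _ hc => by simp [Ne.symm hc]) (by simp)]
        by_cases hxy : x = y <;> by_cases hij : i = j <;>
          simp [Matrix.one_apply, Prod.ext_iff, hxy, hij, vecMulVec_apply, Ne.symm, eq_comm]
      rw [← Matrix.mul_assoc, Matrix.mul_assoc (g : Matrix κ κ F), ← hz1, mul_sub, mul_one, sub_mul, ← Units.val_mul,
        ← Units.val_mul, ← Units.val_mul, mul_inv_cancel, Units.val_one]
    rw [e]
    refine (Matrix.rank_mul_le_left _ _).trans ((Matrix.rank_le_card_width _).trans ?_)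
    rw [Fintype.card_fin]
  obtain ⟨k, hk⟩ : ∃ k, (g * z * g⁻¹) ^ p ^ k = 1 := by
    obtain ⟨k, hk⟩ := isPGroup_root hn p hz ⟨z, Subgroup.mem_zpowers z⟩
    refine ⟨k, ?_⟩
    rw [conj_pow, show z ^ p ^ k = 1 from congrArg Subtype.val hk, mul_one, mul_inv_cancel]
  have hne : g * z * g⁻¹ ≠ 1 := fun e => by
    have hz1 : z = 1 := conj_eq_one_iff.1 e
    obtain ⟨i, hi⟩ := Function.ne_iff.1 hf
    obtain ⟨j, hj⟩ := Function.ne_iff.1 hl
    have := congrFun (congrFun hv ((⟨0, by omega⟩ : Fin n₁), i)) (⟨0, by omega⟩, j)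
    rw [hz1, Units.val_one] at this
    by_cases hij : i = j
    · subst hij
      simp [Matrix.one_apply, vecMulVec_apply] at this
      rcases this with h | h
      · exact hi h
      · exact hj h
    · simp [Matrix.one_apply, hij, vecMulVec_apply] at this
      rcases this with h | h
      · exact hi h
      · exact hj h
  obtain ⟨a, ha, rfl⟩ := root_conj hn hz
  obtain ⟨b, hb, hb'⟩ := root_conj hn (isRoot_of_rank p h1 h12 hmem.1 hk hne hrank)
  obtain ⟨c, hc⟩ : ∃ c, c = b⁻¹ * g * a := ⟨_, rfl⟩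
  have hcX : c ∈ X := hc ▸ mul_mem (mul_mem (inv_mem (hN hb)) hg) (hN ha)
  have hcomm : c * root₀ hn = root₀ hn * c := by
    rw [hc, show b⁻¹ * g * a * root₀ hn = b⁻¹ * (g * (a * root₀ hn * a⁻¹) * g⁻¹) * (g * a) by group, hb']
    group
  let o : Fin n₂ := ⟨0, by omega⟩
  let j₀ : Fin n₂ := ⟨n₂ - 1, by omega⟩
  have hoj : o ≠ j₀ := by simp [o, j₀, Fin.ext_iff]; omega
  have hblock : ∀ d : GL κ F, d * root₀ hn = root₀ hn * d →
      ∀ x k y, k ≠ o → (d : Matrix κ κ F) (x, k) (y, o) = 0 := by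
    intro d hd x k y hk
    have h := congrFun (congrFun (congrArg (fun u : GL κ F => (u : Matrix κ κ F)) hd) (x, k)) (y, j₀)
    simp only [Units.val_mul, root₀, kr_val, transGL_coe, Units.val_one] at h
    rw [show (1 : Matrix (Fin n₁) (Fin n₁) F) ⊗ₖ Matrix.transvection o j₀ (1 : F) =
      1 + Matrix.of fun p' q' => if p'.1 = q'.1 ∧ p'.2 = o ∧ q'.2 = j₀ then 1 else 0 by
        ext ⟨a, i⟩ ⟨b, j⟩
        by_cases hab : a = b <;> by_cases hij : i = j <;>
          simp [Matrix.transvection, Matrix.one_apply, Matrix.single_apply, Prod.ext_iff, hab, hij, eq_comm]] at h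
    rw [mul_add, add_mul, mul_one, one_mul, Matrix.add_apply, Matrix.add_apply, add_right_inj, Matrix.mul_apply,
      Matrix.mul_apply, Finset.sum_eq_single (y, o), Finset.sum_eq_zero] at h
    · simpa using h
    · intro r _
      simp [hk]
    · rintro ⟨r, i⟩ _ hr
      by_cases hi : i = o
      · subst hi
        simp [show r ≠ y from fun e => hr (by rw [e])]
      · simp [hi]
    · simp
  have hcK : c ∈ Kr (Fin n₁) (Fin n₂) F :=
    stab_fibre hN hXS (by rw [Fintype.card_fin]; omega) (by rwa [Fintype.card_fin]) hX ⟨⟨0, by omega⟩⟩ hcX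
      (hblock c hcomm) (hblock c⁻¹ (Commute.inv_left hcomm))
  have hcN : c ∈ Ns (Fin n₁) (Fin n₂) F := ⟨hcK, hXS hcX⟩
  rw [show g = b * c * a⁻¹ by rw [hc]; group]
  exact mul_mem (mul_mem hb hcN) (inv_mem ha)

/-- An overgroup of the tensor stabiliser without all transvections is the stabiliser. -/
theorem overgroup (h1 : 2 ≤ n₁) (h12 : n₁ < n₂) (hex : (∃ a : F, a ≠ 0 ∧ a ≠ 1) ∨ 3 ≤ n₁)
    (hN : Ns (Fin n₁) (Fin n₂) F ≤ X) (hXS : X ≤ specialLinear κ F) :
    X = Ns (Fin n₁) (Fin n₂) F ∨ X = specialLinear κ F := by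
  classical
  by_cases hX : specialLinear κ F ≤ X
  · exact Or.inr (le_antisymm hXS hX)
  left
  obtain ⟨p, hp⟩ := CharP.exists F
  haveI : Fact p.Prime := ⟨CharP.char_is_prime F p⟩
  have hn : 3 ≤ n₂ := by omega
  haveI : Finite (GL κ F) := Finite.of_injective (fun g : GL κ F => (g : Matrix κ κ F)) Units.val_injective
  let R : Set (GL κ F) := {z | IsRoot z}
  have H : Roots p (Ns (Fin n₁) (Fin n₂) F) X R :=
    ⟨hN, fun z hz => by
      obtain ⟨a, ha, rfl⟩ := root_conj hn hz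
      exact mul_mem (mul_mem ha (root₀_mem hn)) (inv_mem ha),
      fun z hz => isPGroup_root hn p hz, fun g hg z hz hm => moves p h1 h12 hex hN hXS hX hg hz hm⟩
  have step : ∀ {γ : Type} {v w : γ → (κ → F)} {g : GL κ F}, g ∈ X → (∀ y, (g : Matrix κ κ F) *ᵥ v y = w y) →
      (∃ z, IsRoot z ∧ z ∈ fixer v) → (∃ z, IsRoot z ∧ z ∈ fixer w) →
      ∃ n ∈ Ns (Fin n₁) (Fin n₂) F, ∀ y, (n : Matrix κ κ F) *ᵥ v y = w y := by
    rintro γ v w g hg hgv ⟨z, hz, hzv⟩ ⟨z', hz', hzw⟩
    obtain ⟨h, -, hhw, n, hn', rfl⟩ := H.factor hg (St := fixer v) (St' := fixer w) (fun s hs y => by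
      rw [← hgv y, gl_mul_mulVec, gl_mul_mulVec, gl_inv_mulVec_cancel, hs y]) hz hzv hz' hzw
    refine ⟨n, hn', fun y => ?_⟩
    have h' := hgv y
    rw [gl_mul_mulVec] at h'
    calc (n : Matrix κ κ F) *ᵥ v y = ((h⁻¹ : GL κ F) : Matrix κ κ F) *ᵥ w y := by
          rw [← h', gl_inv_mulVec_cancel]
      _ = w y := (fixer w).inv_mem hhw y
  refine le_antisymm (fun g hg => ?_) hN
  let o : Fin n₂ := ⟨0, by omega⟩
  let v : Fin n₁ → (κ → F) := fun y => Pi.single (y, o) 1
  have hv : ∀ {γ : Type} (W : γ → (κ → F)) (t : γ → Fin n₁), (∀ a, W a = v (t a)) → ∃ z, IsRoot z ∧ z ∈ fixer W := by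
    intro γ W t hW
    refine exists_root_fix hn W (l := Pi.single ⟨1, by omega⟩ 1) (fun e => by
      simpa using congrFun e ⟨1, by omega⟩) fun a x => ?_
    rw [hW, Finset.sum_eq_single (⟨1, by omega⟩ : Fin n₂) (fun i _ hi => by simp [hi]) (by simp)]
    simp [v, o]
  have hpoint : ∀ y, ∃ (A : Fin n₁ → F) (B : Fin n₂ → F),
      (g : Matrix κ κ F) *ᵥ v y = fun q => A q.1 * B q.2 := by
    intro y
    obtain ⟨l, hl, hl'⟩ := exists_ann h12 (Matrix.of fun x i => ((g : Matrix κ κ F) *ᵥ v y) (x, i))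
    obtain ⟨n, ⟨⟨a, b, rfl⟩, -⟩, hnv⟩ := step hg (v := fun _ : Unit => v y) (w := fun _ => (g : Matrix κ κ F) *ᵥ v y)
      (fun _ => rfl) (hv _ (fun _ => y) fun _ => rfl)
      (exists_root_fix hn _ hl fun _ x => by
        have := congrFun hl' x
        rw [Matrix.mulVec, dotProduct] at this
        simpa [mul_comm] using this)
    refine ⟨fun x => (a : Matrix (Fin n₁) (Fin n₁) F) x y, fun i => (b : Matrix (Fin n₂) (Fin n₂) F) i o, ?_⟩
    rw [← hnv ()]
    funext q
    rw [Matrix.mulVec_single_one, Matrix.col_apply, kr_val, kroneckerMap_apply]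
  choose A B hAB using hpoint
  obtain ⟨l, hl, hl'⟩ := exists_ann h12 (Matrix.of fun y i => B y i)
  obtain ⟨n, hn', hnv⟩ := step hg (v := v) (w := fun y => (g : Matrix κ κ F) *ᵥ v y) (fun _ => rfl)
    (hv v id fun _ => rfl) (exists_root_fix hn _ hl fun y x => by
      have := congrFun hl' y
      rw [Matrix.mulVec, dotProduct] at this
      simp only [Matrix.of_apply, Pi.zero_apply] at this
      simp only [hAB]
      calc ∑ i, l i * (A y x * B y i) = A y x * ∑ i, B y i * l i := by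
            rw [Finset.mul_sum]; exact Finset.sum_congr rfl fun i _ => by ring
        _ = 0 := by rw [this, mul_zero])
  have hm : n⁻¹ * g ∈ X := mul_mem (inv_mem (hN hn')) hg
  have hfix : n⁻¹ * g ∈ fixer v := fun y => by rw [gl_mul_mulVec, ← hnv y, gl_inv_mulVec_cancel]
  have hblock : ∀ d ∈ fixer v, ∀ x k y, k ≠ o → ((d : GL κ F) : Matrix κ κ F) (x, k) (y, o) = 0 :=
    fun d hd x k y hk => by
      have := congrFun (hd y) (x, k)
      rw [Matrix.mulVec_single_one, Matrix.col_apply] at this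
      rw [this]; simp only [v]; rw [Pi.single_eq_of_ne]
      exact fun e => hk (Prod.mk.inj e).2
  have hK := stab_fibre hN hXS (by rw [Fintype.card_fin]; omega) (by rwa [Fintype.card_fin]) hX ⟨⟨0, by omega⟩⟩ hm
    (hblock _ hfix) (hblock _ (inv_mem hfix))
  refine ⟨?_, hXS hg⟩
  have := mul_mem hn'.1 hK
  rwa [mul_inv_cancel_left] at this

/-- The tensor stabiliser is proper. -/
theorem ne_top (h1 : 2 ≤ n₁) (h12 : n₁ < n₂) : Ns (Fin n₁) (Fin n₂) F ≠ specialLinear κ F := by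
  intro e
  let p' : κ := (⟨0, by omega⟩, ⟨0, by omega⟩)
  let q' : κ := (⟨1, by omega⟩, ⟨1, by omega⟩)
  have hne : p' ≠ q' := fun h => by simp [p', q', Prod.ext_iff] at h
  have hmem := transGL_mem (F := F) hne 1
  rw [← e] at hmem
  obtain ⟨⟨a, b, hab⟩, -⟩ := hmem
  have hv : ∀ r s, Matrix.transvection p' q' (1 : F) r s =
      (a : Matrix (Fin n₁) (Fin n₁) F) r.1 s.1 * (b : Matrix (Fin n₂) (Fin n₂) F) r.2 s.2 := fun r s => by
    rw [← transGL_coe hne (1 : F), hab, kr_val, kroneckerMap_apply]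
  have e1 := hv p' q'
  have e2 := hv ((⟨0, by omega⟩ : Fin n₁), (⟨0, by omega⟩ : Fin n₂)) ((⟨0, by omega⟩ : Fin n₁), (⟨1, by omega⟩ : Fin n₂))
  have e3 := hv p' p'
  simp [Matrix.transvection, Matrix.one_apply, Matrix.single_apply, p', q', Prod.ext_iff, Fin.ext_iff] at e1 e2 e3
  rcases e2 with h | h
  · rw [h, zero_mul] at e3; exact one_ne_zero e3
  · rw [h, mul_zero] at e1; exact one_ne_zero e1

/-- The stabiliser of a tensor decomposition is maximal in the special linear group. -/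
theorem isMaximalIn {n : ℕ} (h1 : 2 ≤ n₁) (h12 : n₁ < n₂) (hex : ¬ (n₁ = 2 ∧ Fintype.card F = 2))
    (e : Fin n ≃ κ) (P : GL (Fin n) F) :
    IsMaximalIn (specialLinear (Fin n) F) (tensorProductSubgroup n₁ n₂ e P ⊓ specialLinear (Fin n) F) := by
  classical
  let φ : GL κ F ≃* GL (Fin n) F := (glReindex (F := F) e.symm).trans (MulAut.conj P)
  have hdet : ∀ g, φ g ∈ specialLinear (Fin n) F ↔ g ∈ specialLinear κ F := fun g => by
    rw [mem_specialLinear_iff, mem_specialLinear_iff]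
    have : ((φ g : GL (Fin n) F) : Matrix (Fin n) (Fin n) F).det = (g : Matrix κ κ F).det := by
      simp only [φ, MulEquiv.trans_apply, MulAut.conj_apply, Units.val_mul, Matrix.det_units_conj]
      exact Matrix.det_reindexAlgEquiv F F e.symm _
    rw [this]
  have hkr : ∀ g, φ g ∈ tensorProductSubgroup n₁ n₂ e P ↔ g ∈ Kr (Fin n₁) (Fin n₂) F := fun g => by
    constructor
    · rintro ⟨y, ⟨x, ⟨a, b, hab⟩, rfl⟩, hy⟩
      have : φ x = φ g := hy
      rw [← φ.injective this]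
      exact ⟨a, b, Units.ext hab⟩
    · rintro ⟨a, b, rfl⟩
      exact ⟨_, ⟨_, ⟨a, b, rfl⟩, rfl⟩, rfl⟩
  have hsurj : ∀ g, ∃ x, φ x = g := φ.surjective
  refine ⟨lt_of_le_of_ne inf_le_right fun hEq => ne_top (F := F) h1 h12 (le_antisymm inf_le_right fun g hg => ?_),
    fun M hM hMS => ?_⟩
  · have : φ g ∈ tensorProductSubgroup n₁ n₂ e P ⊓ specialLinear (Fin n) F := hEq.symm ▸ (hdet g).2 hg
    exact ⟨(hkr g).1 this.1, hg⟩
  have hex' : (∃ a : F, a ≠ 0 ∧ a ≠ 1) ∨ 3 ≤ n₁ := by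
    by_contra hcon
    push Not at hcon
    refine hex ⟨by omega, le_antisymm ?_ Fintype.one_lt_card⟩
    have hsub : (Finset.univ : Finset F) ⊆ {0, 1} := fun a _ => by
      by_cases ha : a = 0
      · simp [ha]
      · simp [hcon.1 a ha]
    have := (Finset.card_le_card hsub).trans Finset.card_le_two
    rwa [Finset.card_univ] at this
  rcases overgroup (X := M.comap φ.toMonoidHom) h1 h12 hex' (fun g hg => hM ⟨(hkr g).2 hg.1, (hdet g).2 hg.2⟩)
      (fun g hg => (hdet g).1 (hMS hg)) with h | h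
  · refine Or.inl (le_antisymm (fun g hg => ?_) hM)
    obtain ⟨x, rfl⟩ := hsurj g
    have hx : x ∈ Ns (Fin n₁) (Fin n₂) F := h ▸ (show x ∈ M.comap φ.toMonoidHom from hg)
    exact ⟨(hkr x).2 hx.1, (hdet x).2 hx.2⟩
  · refine Or.inr (le_antisymm hMS fun g hg => ?_)
    obtain ⟨x, rfl⟩ := hsurj g
    have hx : x ∈ M.comap φ.toMonoidHom := h.symm ▸ (hdet x).1 hg
    exact hx

end Cfsg.Agent.Classical.TensorMax
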